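import Groth.Agent.AlgSp.K614.Push2
import Groth.Agent.AlgSp.K620.ExistVC
/-!
# Lifts of valuative squares through étale charts

* `K614.ValChart.exists_domExt_chart`: refined form of `K620.ExistVC.hasLiftExt_of_specializes`;
* `K614.ValChart.exists_chart_lift`: if a valuative square over an algebraic space has a lift after some dominating extension, it has
  one, after another dominating extension, factoring through an étale chart.
-/

set_option autoImplicit false
universe u

open CategoryTheory CategoryTheory.Limits AlgebraicGeometry Opposite AlgSp IsLocalRing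

namespace K614.ValChart

open K614.Val

variable {S : Scheme.{u}} {F G : Sp S} {f : F ⟶ G}

/-- A field point of a chart compatible with the top arrow of the square and a specialization over the closed point give a
dominating extension with a lift through the chart. -/
theorem exists_domExt_chart (sq : ValSq f) {U : Over S} (a : (yon S).obj U ⟶ F)
    (b : U ⟶ sq.ptA) {Ω : Type u} [Field Ω]
    {w : Spec (CommRingCat.of Ω) ⟶ S} (v : Over.mk w ⟶ U) (g : Over.mk w ⟶ sq.ptK)
    (hvg : (yon S).map v ≫ a = (yon S).map g ≫ sq.top) (hvb : v ≫ b = g ≫ sq.j) (u0 : ↥U.left)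
    (h : v.left (closedPoint Ω) ⤳ u0) (hu0 : b.left u0 = closedPoint sq.A) :
    ∃ (e : sq.DomExt) (l : e.ptA' ⟶ U), (yon S).map (jK e ≫ l) ≫ a = (yon S).map (pK e) ≫ sq.top ∧ l ≫ b = pA e := by
  obtain ⟨A', l, hl, hl0⟩ := K620.ExistVC.exists_val (U := U.left) (Ω := Ω) v.left u0 h
  let φ : CommRingCat.of sq.A ⟶ CommRingCat.of A' := Spec.preimage (l ≫ b.left)
  have hφ : Spec.map φ = l ≫ b.left := Spec.map_preimage _
  let ψ : CommRingCat.of sq.K ⟶ CommRingCat.of Ω := Spec.preimage g.left
  have hψ : Spec.map ψ = g.left := Spec.map_preimage _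
  have hgl : v.left ≫ b.left = g.left ≫ Spec.map (CommRingCat.ofHom (algebraMap sq.A sq.K)) :=
    congrArg (·.left) hvb
  have hcomm : (algebraMap A' Ω).comp φ.hom = ψ.hom.comp (algebraMap sq.A sq.K) := by
    have h1 : φ ≫ CommRingCat.ofHom (algebraMap A' Ω) = CommRingCat.ofHom (algebraMap sq.A sq.K) ≫ ψ := by
      apply Spec.map_injective
      rw [Spec.map_comp, Spec.map_comp, hφ, hψ, ← Category.assoc, hl, hgl]
    exact congrArg (·.hom) h1
  have hloc : IsLocalHom φ.hom := by
    rw [isLocalHom_iff_comap_closedPoint]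
    have h1 : Spec.map φ (closedPoint A') = closedPoint sq.A := by
      rw [hφ]
      exact (Scheme.Hom.comp_apply l b.left _).trans ((congrArg b.left hl0).trans hu0)
    exact h1
  let e : sq.DomExt := { A' := A', K' := Ω, φ := φ.hom, ψ := ψ.hom, comm := hcomm, isLocalHom := hloc }
  have hUs : l ≫ U.hom = Spec.map φ ≫ sq.str := by
    rw [hφ, Category.assoc]
    exact congrArg (l ≫ ·) (Over.w b).symm
  let l' : e.ptA' ⟶ U := Over.homMk l hUs
  refine ⟨e, l', ?_, ?_⟩
  · have hw : (Spec.map (CommRingCat.ofHom (algebraMap A' Ω)) ≫ Spec.map φ ≫ sq.str) = w := by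
      rw [← hUs, ← Category.assoc, hl]
      exact Over.w v
    let i : e.ptK' ⟶ Over.mk w := Over.homMk (𝟙 _) (by
      change 𝟙 _ ≫ w = _
      rw [Category.id_comp]
      exact hw.symm)
    have h1 : jK e ≫ l' = i ≫ v := by
      apply Over.OverMorphism.ext
      change Spec.map (CommRingCat.ofHom (algebraMap A' Ω)) ≫ l = 𝟙 _ ≫ v.left
      rw [hl]
      exact (Category.id_comp _).symm
    rw [h1, Functor.map_comp, Category.assoc, hvg, ← Category.assoc, ← Functor.map_comp]
    congr 2
    apply Over.OverMorphism.ext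
    change 𝟙 _ ≫ g.left = Spec.map ψ
    rw [hψ]
    exact Category.id_comp _
  · apply Over.OverMorphism.ext
    exact hφ.symm

theorem exists_frac_ext {A K Ω : Type u} [CommRing A] [IsDomain A] [Field K] [Algebra A K] [IsFractionRing A K] [Field Ω]
    (θ : A →+* Ω) (h : Function.Injective θ) : ∃ κ : K →+* Ω, κ.comp (algebraMap A K) = θ :=
  ⟨IsFractionRing.lift h, RingHom.ext fun x => IsFractionRing.lift_algebraMap h x⟩

/-- A map from the spectrum of a field to the spectrum of a domain hitting the generic point is given by an injective ring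
map. -/
theorem injective_of_generic {A Ω : Type u} [CommRing A] [IsDomain A] [Field Ω]
    (θ : CommRingCat.of A ⟶ CommRingCat.of Ω)
    (h : (Spec.map θ) (closedPoint Ω) = (⟨⊥, Ideal.isPrime_bot⟩ : PrimeSpectrum A)) : Function.Injective θ.hom := by
  rw [RingHom.injective_iff_ker_eq_bot]
  have h4 : (PrimeSpectrum.comap θ.hom (closedPoint Ω)).asIdeal = (⊥ : Ideal A) :=
    congrArg PrimeSpectrum.asIdeal h
  have h5 : (PrimeSpectrum.comap θ.hom (closedPoint Ω)).asIdeal = RingHom.ker θ.hom := by
    change Ideal.comap θ.hom (maximalIdeal Ω) = _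
    rw [maximalIdeal_eq_bot]
    rfl
  rw [← h5, h4]

theorem exists_fieldPt (W : Over S) (w : ↥W.left) :
    ∃ (Ω : Type u) (_ : Field Ω) (str : Spec (CommRingCat.of Ω) ⟶ S) (v : Over.mk str ⟶ W),
      v.left (closedPoint Ω) = w :=
  ⟨↥(W.left.residueField w), inferInstance, W.left.fromSpecResidueField w ≫ W.hom,
    Over.homMk (W.left.fromSpecResidueField w) rfl, Scheme.fromSpecResidueField_apply _ _⟩

/-- If a valuative square of a morphism from an algebraic space has a lift after some dominating extension, it has one, after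
another dominating extension, factoring through an étale chart. -/
theorem exists_chart_lift (hF : IsAlgSpace F) (sq : ValSq f) (h : sq.HasLiftExt) :
    ∃ (U : Over S) (a : (yon S).obj U ⟶ F) (_ : RepWith @Etale a) (e : sq.DomExt) (l : e.ptA' ⟶ U),
      (yon S).map (jK e ≫ l) ≫ a = (yon S).map (pK e) ≫ sq.top ∧
      ((yon S).map l ≫ a) ≫ f = (yon S).map (pA e) ≫ sq.bot := by
  obtain ⟨e₁, he₁⟩ := h
  obtain ⟨l₁, h1, h2⟩ := (hasLift_iff e₁).1 he₁
  let s : ↥e₁.ptA'.left := (closedPoint e₁.A' : ↥(Spec (CommRingCat.of e₁.A')))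
  obtain ⟨U, a, u, ha, -, hu⟩ := K618.FieldFib.exists_chart_point hF (Points.ofPt l₁ s)
  obtain ⟨W, c, fst, P⟩ := ha.1 l₁
  obtain ⟨r, rfl⟩ := (yon S).map_surjective fst
  obtain ⟨w, hw1, hw2⟩ := K611.exists_point_of_isPullback P u s hu
  have hc : Etale c.left := ha.2 _ _ c P
  -- generization over the generic point
  let η : ↥e₁.ptA'.left := (⟨⊥, Ideal.isPrime_bot⟩ : PrimeSpectrum e₁.A')
  have hη : η ⤳ c.left w := by
    rw [hw2]
    exact specializes_closedPoint (R := e₁.A') _
  obtain ⟨w', hw', hw'η⟩ := Flat.generalizingMap c.left hη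
  have hw'η : c.left w' = η := hw'η
  -- the field point
  obtain ⟨Ω, _, str, v, hv0⟩ := exists_fieldPt W w'
  let θ : CommRingCat.of e₁.A' ⟶ CommRingCat.of Ω := Spec.preimage (v ≫ c).left
  have hθ : Spec.map θ = (v ≫ c).left := Spec.map_preimage _
  have hθ0 : Function.Injective θ.hom := by
    apply injective_of_generic
    rw [hθ]
    change c.left (v.left (closedPoint Ω)) = η
    rw [hv0, hw'η]
  obtain ⟨κ, hκ⟩ := exists_frac_ext (A := e₁.A') (K := e₁.K') θ.hom hθ0
  -- the map to `Spec K`
  have hvc : Spec.map θ ≫ e₁.ptA'.hom = str := by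
    rw [hθ]
    exact Over.w (v ≫ c)
  let gK : Over.mk str ⟶ e₁.ptK' :=
    Over.homMk (Spec.map (CommRingCat.ofHom κ)) (by
      change Spec.map (CommRingCat.ofHom κ) ≫ Spec.map (CommRingCat.ofHom (algebraMap e₁.A' e₁.K')) ≫ e₁.ptA'.hom = str
      rw [← Category.assoc, ← Spec.map_comp, ← CommRingCat.ofHom_comp, hκ]
      exact hvc)
  have hgK : gK ≫ jK e₁ = v ≫ c := by
    apply Over.OverMorphism.ext
    change Spec.map (CommRingCat.ofHom κ) ≫ Spec.map (CommRingCat.ofHom (algebraMap e₁.A' e₁.K')) = (v ≫ c).left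
    rw [← Spec.map_comp, ← CommRingCat.ofHom_comp, hκ]
    exact hθ
  obtain ⟨e, l, hl1, hl2⟩ := exists_domExt_chart sq ((yon S).map r ≫ a) (c ≫ pA e₁) v (gK ≫ pK e₁) (by
      rw [P.w, ← Functor.map_comp_assoc, ← hgK, Functor.map_comp_assoc, h1, Functor.map_comp_assoc]) (by
      rw [Category.assoc, pK_j, ← Category.assoc, ← Category.assoc, hgK]) w (by
      rw [hv0]; exact hw') (by
      change (pA e₁).left (c.left w) = _
      rw [hw2]
      exact K614.Push.closedPoint_φ e₁)
  refine ⟨U, a, ha, e, l ≫ r, ?_, ?_⟩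
  · rw [← hl1, ← Category.assoc, Functor.map_comp (f := jK e ≫ l), Category.assoc]
  · have h3 : (yon S).map (l ≫ c) ≫ l₁ ≫ f = (yon S).map (pA e) ≫ sq.bot := by
      rw [h2, ← hl2, ← Functor.map_comp_assoc, Category.assoc]
    rw [← h3, Functor.map_comp, Functor.map_comp, Category.assoc, Category.assoc, Category.assoc, reassoc_of% P.w]

end K614.ValChart
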