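import Mathlib.AlgebraicGeometry.Morphisms.Etale
import Mathlib.RingTheory.Etale.Field
import Mathlib.AlgebraicGeometry.Stalk
/-!
# Points of étale schemes over a field factor through finite separable extensions
-/

set_option autoImplicit false
universe u

open CategoryTheory CategoryTheory.Limits AlgebraicGeometry Opposite IsLocalRing

namespace K614.FieldEt

theorem exists_finSep_alg {K K' R : Type u} [Field K] [Field K'] [CommRing R] (ρ : K →+* R) (hρ : ρ.Etale) (τ : R →+* K') :
    ∃ (L : Type u) (_ : Field L) (q : R →+* L) (j : L →+* K'), j.comp q = τ ∧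
      (letI := (q.comp ρ).toAlgebra; Module.Finite K L ∧ Algebra.IsSeparable K L) := by
  algebraize [ρ]
  have h1 := Algebra.FormallyUnramified.finite_of_free K R
  have h2 : IsArtinianRing R := isArtinian_of_tower K inferInstance
  have hp : (RingHom.ker τ).IsPrime := RingHom.ker_isPrime τ
  have hm : (RingHom.ker τ).IsMaximal := IsArtinianRing.isMaximal_of_isPrime _
  let := Ideal.Quotient.field (RingHom.ker τ)
  refine ⟨R ⧸ RingHom.ker τ, inferInstance, Ideal.Quotient.mk _, Ideal.Quotient.lift _ τ (fun _ h => h), ?_, ?_⟩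
  · ext x; rfl
  · exact ⟨inferInstanceAs (Module.Finite K (R ⧸ RingHom.ker τ)),
      inferInstanceAs (Algebra.IsSeparable K (R ⧸ RingHom.ker τ))⟩

theorem exists_finSep {K K' : Type u} [Field K] [Field K'] {E : Scheme.{u}} (s : E ⟶ Spec (CommRingCat.of K))
    [Etale s] (x : Spec (CommRingCat.of K') ⟶ E) :
    ∃ (L : Type u) (_ : Field L) (i : K →+* L) (j : L →+* K') (y : Spec (CommRingCat.of L) ⟶ E),
      Spec.map (CommRingCat.ofHom j) ≫ y = x ∧ y ≫ s = Spec.map (CommRingCat.ofHom i) ∧
        (letI := i.toAlgebra; Module.Finite K L ∧ Algebra.IsSeparable K L) := by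
  obtain ⟨V, hV, hxV, -⟩ := exists_isAffineOpen_mem_and_subset (x := x (closedPoint K')) (U := ⊤) trivial
  have hr : Set.range x ⊆ Set.range hV.fromSpec := by
    rw [hV.range_fromSpec]
    rintro _ ⟨z, rfl⟩
    rw [show z = (closedPoint K' : PrimeSpectrum K') from Subsingleton.elim _ _]
    exact hxV
  let t : Spec (CommRingCat.of K') ⟶ Spec Γ(E, V) := IsOpenImmersion.lift hV.fromSpec x hr
  have ht : t ≫ hV.fromSpec = x := IsOpenImmersion.lift_fac _ _ _
  let τ : Γ(E, V) ⟶ CommRingCat.of K' := Spec.preimage t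
  have hτ : Spec.map τ = t := Spec.map_preimage _
  let ρ : CommRingCat.of K ⟶ Γ(E, V) := Spec.preimage (hV.fromSpec ≫ s)
  have hρ : Spec.map ρ = hV.fromSpec ≫ s := Spec.map_preimage _
  have hρe : ρ.hom.Etale := by
    rw [← HasRingHomProperty.Spec_iff (P := @Etale), hρ]
    infer_instance
  obtain ⟨L, _, q, j, hj, hL⟩ := exists_finSep_alg ρ.hom hρe τ.hom
  refine ⟨L, inferInstance, q.comp ρ.hom, j, Spec.map (CommRingCat.ofHom q) ≫ hV.fromSpec, ?_, ?_, hL⟩
  · rw [← Category.assoc, ← Spec.map_comp, ← CommRingCat.ofHom_comp, hj]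
    change Spec.map τ ≫ _ = x
    rw [hτ, ht]
  · rw [Category.assoc, ← hρ, ← Spec.map_comp]
    rfl

end K614.FieldEt
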