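import Groth.Agent.AlgSp.K614.Chart
import Groth.Agent.AlgSp.K614.FieldEt
/-!
# Finite separable extensions suffice in the existence part of the valuative criterion
-/

set_option autoImplicit false
universe u

open CategoryTheory CategoryTheory.Limits AlgebraicGeometry Opposite AlgSp IsLocalRing

namespace K614.FinSep

open K614.Val

variable {S : Scheme.{u}} {F G : Sp S} {f : F ⟶ G}

/-- Restriction of a dominating valuation ring to an intermediate field `K → L → K'`. -/
theorem exists_valuation {A K A' K' L : Type u} [CommRing A] [IsDomain A] [ValuationRing A] [Field K] [Algebra A K]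
    [IsFractionRing A K] [CommRing A'] [IsDomain A'] [ValuationRing A'] [Field K'] [Algebra A' K'] [IsFractionRing A' K']
    [Field L] (φ : A →+* A') (ψ : K →+* K') (hc : (algebraMap A' K').comp φ = ψ.comp (algebraMap A K))
    (hloc : IsLocalHom φ) (i : K →+* L) (j : L →+* K') (hij : j.comp i = ψ) :
    ∃ (B : ValuationSubring L) (α : A →+* B) (β : B →+* A'), IsLocalHom α ∧ IsLocalHom β ∧
      (algebraMap B L).comp α = i.comp (algebraMap A K) ∧ (algebraMap A' K').comp β = j.comp (algebraMap B L) ∧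
      β.comp α = φ := by
  let V : ValuationSubring K' :=
    { (algebraMap A' K').range with
      mem_or_inv_mem' := fun x => by
        rcases ValuationRing.isInteger_or_isInteger A' x with h | h
        · left; obtain ⟨a, ha⟩ := h; exact ⟨a, ha⟩
        · right; obtain ⟨a, ha⟩ := h; exact ⟨a, ha⟩ }
  have hV : ∀ x : K', x ∈ V ↔ x ∈ (algebraMap A' K').range := fun x => Iff.rfl
  let B : ValuationSubring L := V.comap j
  have hB : ∀ x : L, x ∈ B ↔ j x ∈ (algebraMap A' K').range := fun x => Iff.rfl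
  obtain ⟨β, hβ⟩ := K614.Push.exists_lift_of_range (algebraMap A' K') (IsFractionRing.injective A' K')
    (j.comp (algebraMap B L)) (fun r => (hB _).1 r.2)
  have hα' : ∀ a : A, i (algebraMap A K a) ∈ B := fun a => (hB _).2 ⟨φ a, by
    rw [← RingHom.comp_apply, hc, ← hij]; rfl⟩
  let α : A →+* B := (i.comp (algebraMap A K)).codRestrict B.toSubring hα'
  have hα : (algebraMap B L).comp α = i.comp (algebraMap A K) := rfl
  have hβα : β.comp α = φ := by
    ext a
    apply IsFractionRing.injective A' K'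
    have h1 : algebraMap A' K' (β (α a)) = j (algebraMap B L (α a)) := RingHom.congr_fun hβ _
    have h2 : algebraMap B L (α a) = i (algebraMap A K a) := RingHom.congr_fun hα a
    have h3 : algebraMap A' K' (φ a) = ψ (algebraMap A K a) := RingHom.congr_fun hc a
    rw [RingHom.comp_apply, h1, h2, h3, ← hij]; rfl
  refine ⟨B, α, β, ?_, ?_, hα, hβ, hβα⟩
  · refine ⟨fun a ha => ?_⟩
    have h1 : IsUnit (φ a) := by
      rw [← hβα]; exact ha.map β
    exact isUnit_of_map_unit φ a h1
  · refine ⟨fun b hb => ?_⟩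
    obtain ⟨c, hc'⟩ := hb.exists_right_inv
    have hb0 : (b : L) ≠ 0 := by
      intro h0
      have : b = 0 := Subtype.ext h0
      rw [this, map_zero, zero_mul] at hc'
      exact zero_ne_one hc'
    have h1 : j ((b : L)⁻¹) = algebraMap A' K' c := by
      have h2 : algebraMap A' K' (β b) = j (b : L) := RingHom.congr_fun hβ b
      have h3 : j (b : L) * algebraMap A' K' c = 1 := by rw [← h2, ← map_mul, hc', map_one]
      rw [map_inv₀]
      exact (eq_inv_of_mul_eq_one_right h3).symm
    have h4 : (b : L)⁻¹ ∈ B := (hB _).2 ⟨c, h1.symm⟩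
    refine IsUnit.of_mul_eq_one (⟨(b : L)⁻¹, h4⟩ : B) ?_
    apply Subtype.ext
    change (b : L) * (b : L)⁻¹ = 1
    exact mul_inv_cancel₀ hb0

theorem exists_finSep (hG : Representable (Limits.diag G)) (sq : ValSq f) {U : Over S} {a : (yon S).obj U ⟶ F}
    (ha : RepWith @Etale a) (e : sq.DomExt) (l : e.ptA' ⟶ U)
    (h1 : (yon S).map (jK e ≫ l) ≫ a = (yon S).map (pK e) ≫ sq.top)
    (h2 : ((yon S).map l ≫ a) ≫ f = (yon S).map (pA e) ≫ sq.bot) :
    ∃ e' : sq.DomExt, (letI := e'.ψ.toAlgebra; Module.Finite sq.K e'.K' ∧ Algebra.IsSeparable sq.K e'.K') ∧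
      ∃ l' : e'.ptA' ⟶ U, (yon S).map (jK e' ≫ l') ≫ a = (yon S).map (pK e') ≫ sq.top ∧
        ((yon S).map l' ≫ a) ≫ f = (yon S).map (pA e') ≫ sq.bot := by
  obtain ⟨E, s, fst, P⟩ := ha.1 sq.top
  obtain ⟨r, rfl⟩ := (yon S).map_surjective fst
  have hs : Etale s.left := ha.2 _ _ s P
  obtain ⟨x, hx⟩ := (yon S).map_surjective (P.lift _ _ h1)
  have hx1 : x ≫ r = jK e ≫ l := (yon S).map_injective (by rw [Functor.map_comp, hx, P.lift_fst])
  have hx2 : x ≫ s = pK e := (yon S).map_injective (by rw [Functor.map_comp, hx, P.lift_snd])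
  obtain ⟨L, _, i, j, y, hjy, hys, hL⟩ := K614.FieldEt.exists_finSep (K := sq.K) (K' := e.K') (E := E.left) s.left x.left
  have hij : j.comp i = e.ψ := by
    have h3 : CommRingCat.ofHom i ≫ CommRingCat.ofHom j = CommRingCat.ofHom e.ψ := by
      apply Spec.map_injective
      rw [Spec.map_comp, ← hys, ← Category.assoc, hjy]
      exact congrArg (·.left) hx2
    exact congrArg (·.hom) h3
  obtain ⟨B, α, β, hαl, hβl, hα, hβ, hβα⟩ := exists_valuation e.φ e.ψ e.comm e.isLocalHom i j hij
  let e' : sq.DomExt := { A' := B, K' := L, φ := α, ψ := i, comm := hα, isLocalHom := hαl }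
  have hstr : Spec.map (CommRingCat.ofHom β) ≫ Spec.map (CommRingCat.ofHom α) ≫ sq.str =
      Spec.map (CommRingCat.ofHom e.φ) ≫ sq.str := by
    rw [← Category.assoc, ← Spec.map_comp, ← CommRingCat.ofHom_comp, hβα]
  -- the lift to `U`
  obtain ⟨v, hv1, hv2⟩ := K614.Push2.exists_push_over' (A := B) (K := L) (A' := e.A') (K' := e.K') β j hβ hβl (U := U)
    (Spec.map (CommRingCat.ofHom α) ≫ sq.str) (y ≫ r.left) l.left (by
      rw [Category.assoc, Over.w r, ← Over.w s, ← Category.assoc, hys]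
      change Spec.map (CommRingCat.ofHom i) ≫ Spec.map (CommRingCat.ofHom (algebraMap sq.A sq.K)) ≫ sq.str = _
      rw [← Category.assoc, ← Category.assoc, ← Spec.map_comp, ← Spec.map_comp, ← CommRingCat.ofHom_comp,
        ← CommRingCat.ofHom_comp, hα]) (by
      rw [hstr]
      exact Over.w l) (by
      rw [← Category.assoc, hjy]
      exact (congrArg (·.left) hx1).symm)
  let v' : e'.ptA' ⟶ U := v
  -- the comparison maps
  let y' : e'.ptK' ⟶ E := Over.homMk y (by
    rw [← Over.w s, ← Category.assoc, hys]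
    change Spec.map (CommRingCat.ofHom i) ≫ Spec.map (CommRingCat.ofHom (algebraMap sq.A sq.K)) ≫ sq.str =
      Spec.map (CommRingCat.ofHom (algebraMap B L)) ≫ Spec.map (CommRingCat.ofHom α) ≫ sq.str
    rw [← Category.assoc, ← Category.assoc, ← Spec.map_comp, ← Spec.map_comp, ← CommRingCat.ofHom_comp,
      ← CommRingCat.ofHom_comp, hα])
  have hy'r : jK e' ≫ v' = y' ≫ r := by
    apply Over.OverMorphism.ext
    exact hv1
  have hy's : y' ≫ s = pK e' := by
    apply Over.OverMorphism.ext
    exact hys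
  have h1' : (yon S).map (jK e' ≫ v') ≫ a = (yon S).map (pK e') ≫ sq.top := by
    rw [hy'r, Functor.map_comp, Category.assoc, P.w, ← Category.assoc, ← Functor.map_comp, hy's]
  refine ⟨e', hL, v', h1', ?_⟩
  -- compare the two maps to `G`
  refine K614.Push2.eq_of_agree_space (A := B) (K := L) (A' := e.A') (K' := e.K') β j hβ hβl hG
    (Spec.map (CommRingCat.ofHom α) ≫ sq.str) _ _ ?_ ?_
  · have h3 : (yon S).map (jK e') ≫ ((yon S).map v' ≫ a) ≫ f = (yon S).map (jK e') ≫ (yon S).map (pA e') ≫ sq.bot := by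
      rw [← Category.assoc, ← Category.assoc, ← Functor.map_comp, h1', Category.assoc, sq.comm,
        ← Functor.map_comp_assoc, ← Functor.map_comp_assoc, pK_j]
    exact h3
  · let t : Over.mk (Spec.map (CommRingCat.ofHom β) ≫ Spec.map (CommRingCat.ofHom α) ≫ sq.str) ⟶ e'.ptA' :=
      Over.homMk (Spec.map (CommRingCat.ofHom β)) rfl
    let ι : Over.mk (Spec.map (CommRingCat.ofHom β) ≫ Spec.map (CommRingCat.ofHom α) ≫ sq.str) ⟶ e.ptA' :=
      Over.homMk (𝟙 _) (by
        change 𝟙 _ ≫ Spec.map (CommRingCat.ofHom e.φ) ≫ sq.str = _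
        rw [Category.id_comp]; exact hstr.symm)
    have ht1 : t ≫ v' = ι ≫ l := by
      apply Over.OverMorphism.ext
      change Spec.map (CommRingCat.ofHom β) ≫ v.left = 𝟙 _ ≫ l.left
      rw [hv2]; exact (Category.id_comp _).symm
    have ht2 : t ≫ pA e' = ι ≫ pA e := by
      apply Over.OverMorphism.ext
      change Spec.map (CommRingCat.ofHom β) ≫ Spec.map (CommRingCat.ofHom α) =
        𝟙 (Spec (CommRingCat.of e.A')) ≫ Spec.map (CommRingCat.ofHom e.φ)
      rw [Category.id_comp, ← Spec.map_comp, ← CommRingCat.ofHom_comp, hβα]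
    have h3 : (yon S).map t ≫ ((yon S).map v' ≫ a) ≫ f = (yon S).map t ≫ (yon S).map (pA e') ≫ sq.bot :=
      calc (yon S).map t ≫ ((yon S).map v' ≫ a) ≫ f = ((yon S).map (t ≫ v') ≫ a) ≫ f := by
            simp only [Functor.map_comp, Category.assoc]
        _ = ((yon S).map (ι ≫ l) ≫ a) ≫ f := by rw [ht1]
        _ = (yon S).map ι ≫ ((yon S).map l ≫ a) ≫ f := by simp only [Functor.map_comp, Category.assoc]
        _ = (yon S).map ι ≫ (yon S).map (pA e) ≫ sq.bot := by rw [h2]
        _ = (yon S).map (ι ≫ pA e) ≫ sq.bot := by simp only [Functor.map_comp, Category.assoc]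
        _ = (yon S).map (t ≫ pA e') ≫ sq.bot := by rw [ht2]
        _ = (yon S).map t ≫ (yon S).map (pA e') ≫ sq.bot := by simp only [Functor.map_comp, Category.assoc]
    exact h3

theorem existVC_finite_separable (hF : IsAlgSpace F) (hG : Representable (Limits.diag G)) (sq : ValSq f)
    (h : sq.HasLiftExt) : ∃ e : sq.DomExt, (letI := e.ψ.toAlgebra; Module.Finite sq.K e.K' ∧ Algebra.IsSeparable sq.K e.K') ∧
      e.HasLift := by
  obtain ⟨U, a, ha, e, l, h1, h2⟩ := K614.ValChart.exists_chart_lift hF sq h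
  obtain ⟨e', he', l', h1', h2'⟩ := exists_finSep hG sq ha e l h1 h2
  refine ⟨e', he', (hasLift_iff e').2 ⟨(yon S).map l' ≫ a, ?_, h2'⟩⟩
  rw [← Functor.map_comp_assoc, h1']

end K614.FinSep
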