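import Groth.Agent.AlgSp.K614.Chart
import Groth.Agent.AlgSp.K597.LocP
import Groth.Agent.AlgSp.K597.EtLoc
/-!
# Lifting valuation rings along flat morphisms of algebraic spaces
-/

set_option autoImplicit false
universe u

open CategoryTheory CategoryTheory.Limits AlgebraicGeometry Opposite AlgSp IsLocalRing

namespace K614.FlatLift

variable {S : Scheme.{u}} {F G : Sp S}

theorem exists_lift (hF : IsAlgSpace F) (hG : IsAlgSpace G) (f : F ⟶ G) (hf : LocP @Flat f) (A : Type u) [CommRing A]
    [IsDomain A] [ValuationRing A] (str : Spec (CommRingCat.of A) ⟶ S) (b : (yon S).obj (Over.mk str) ⟶ G)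
    (hb : Points.ofPt b (closedPoint A) ∈ Set.range (Points.map f)) :
    ∃ (A' : Type u) (_ : CommRing A') (_ : IsDomain A') (_ : ValuationRing A') (φ : A →+* A'),
      Function.Injective φ ∧ IsLocalHom φ ∧
      ∃ l : (yon S).obj (Over.mk (Spec.map (CommRingCat.ofHom φ) ≫ str)) ⟶ F,
        l ≫ f = (yon S).map (Over.homMk (Spec.map (CommRingCat.ofHom φ)) rfl :
          Over.mk (Spec.map (CommRingCat.ofHom φ) ≫ str) ⟶ Over.mk str) ≫ b := by
  obtain ⟨x, hx⟩ := hb
  let c : ↥(Over.mk str).left := (closedPoint A : PrimeSpectrum A)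
  have sqP := IsPullback.of_hasPullback f b
  have hP : IsAlgSpace (pullback f b) := K613.Chart.isAlgSpace_pullback hF (IsAlgSpace.yon_obj _) hG _ _
  have hs : LocP @Flat (pullback.snd f b) :=
    K597.locP_bc K597.etLoc_flat sqP hF.hasAtlas hG.hasAtlas (IsAlgSpace.yon_obj _).hasAtlas hf
  obtain ⟨p, -, hp⟩ := K609.Points.exists_of_isPullback sqP x (Points.ofScheme (Over.mk str) c) (by
    rw [← Points.ofPt_eq_map_ofScheme]; exact hx)
  obtain ⟨U, a, u, ha, -, hu⟩ := K618.FieldFib.exists_chart_point hP p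
  obtain ⟨k, hk⟩ := (yon S).map_surjective (a ≫ pullback.snd f b)
  have hkf : Flat k.left := hs a (𝟙 _) k ha (K613.Chart.Ch.id _).et (by rw [Category.comp_id]; exact hk.symm)
  have hku : k.left u = c := by
    apply K609.Points.ofScheme_injective (Over.mk str)
    rw [← K609.Points.ofPt_yon_map, hk, ← Points.map_ofPt, hu, hp]
  let η : ↥(Over.mk str).left := (⟨⊥, Ideal.isPrime_bot⟩ : PrimeSpectrum A)
  have hη : η ⤳ k.left u := by
    rw [hku]
    exact specializes_closedPoint (R := A) _
  obtain ⟨u', hu', hu'η⟩ := Flat.generalizingMap k.left hη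
  have hu'η : k.left u' = η := hu'η
  obtain ⟨Ω, _, str', v, hv0⟩ := K614.ValChart.exists_fieldPt U u'
  obtain ⟨A', l, hl, hl0⟩ := K620.ExistVC.exists_val (U := U.left) (Ω := Ω) v.left u (by rw [hv0]; exact hu')
  let φ : CommRingCat.of A ⟶ CommRingCat.of A' := Spec.preimage (l ≫ k.left)
  have hφ : Spec.map φ = l ≫ k.left := Spec.map_preimage _
  have hinj : Function.Injective φ.hom := by
    have h1 : Function.Injective (φ ≫ CommRingCat.ofHom (algebraMap A' Ω)).hom := by
      apply K614.ValChart.injective_of_generic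
      rw [Spec.map_comp, hφ, ← Category.assoc, hl]
      change k.left (v.left (closedPoint Ω)) = η
      rw [hv0, hu'η]
    have h2 : Function.Injective ((algebraMap A' Ω) ∘ φ.hom) := h1
    exact h2.of_comp
  have hloc : IsLocalHom φ.hom := by
    rw [isLocalHom_iff_comap_closedPoint]
    have h1 : Spec.map φ (closedPoint A') = closedPoint A := by
      rw [hφ]
      exact (Scheme.Hom.comp_apply l k.left _).trans ((congrArg k.left hl0).trans hku)
    exact h1
  have hUs : l ≫ U.hom = Spec.map φ ≫ str := by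
    rw [hφ, Category.assoc]
    exact congrArg (l ≫ ·) (Over.w k).symm
  let l' : Over.mk (Spec.map (CommRingCat.ofHom φ.hom) ≫ str) ⟶ U := Over.homMk l hUs
  refine ⟨A', inferInstance, inferInstance, inferInstance, φ.hom, hinj, hloc, (yon S).map l' ≫ a ≫ pullback.fst f b, ?_⟩
  have h1 : l' ≫ k = Over.homMk (Spec.map (CommRingCat.ofHom φ.hom)) rfl := by
    apply Over.OverMorphism.ext
    exact hφ.symm
  rw [Category.assoc, Category.assoc, pullback.condition, ← Category.assoc a, ← hk, ← Functor.map_comp_assoc, h1]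

end K614.FlatLift
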