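import Groth.Agent.AlgSp.K614.NagR
import Groth.Agent.AlgSp.K604.NagRed
import Groth.Agent.AlgSp.K647.T3

/-!
# Nagata compactification: assembly
-/

set_option autoImplicit false
universe u
open CategoryTheory CategoryTheory.Limits AlgebraicGeometry Opposite TopologicalSpace
open AlgSp K598.RepKit
open K619.NagKit K619.NagMain

namespace K614.NagFin

variable {S : Scheme.{u}} {B : Sp S}

/-- Compactifications of affine schemes over `B`. -/
def AffComp (B : Sp S) : Prop :=
  ∀ ⦃T : Over S⦄ (h : (yon S).obj T ⟶ B), IsAffine T.left → SFT h → K619.NagMain.Comp h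

/-- Nagata compactification over Noetherian spaces from the dilatation theorem `K619.NagMain.Partial`. -/
theorem nagNoe [QuasiSeparatedSpace ↥S] (HP : ∀ ⦃V : Over S⦄, IsAffine V.left → Noe ((yon S).obj V) →
      AffComp ((yon S).obj V) → Partial ((yon S).obj V)) : K604.NagRed.NagNoe S := by
  intro X B f hX hB hBqc hBqs hBn hsep hft
  have hBn : Noe B := ⟨hB, hBqc, hBqs, hBn⟩
  have hf : SFT f := ⟨hsep, hft⟩
  obtain ⟨Xc, j, g, hXc, hj, hg, hjg⟩ : K619.NagMain.Comp f := NagR.main (fun V hV hVn Y h hY hh =>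
    nagata_noe K647.T3.t3 K647.T3.blEx (HP hV hVn fun T k hT hk => NagR.comp_affine k hk.ft) hVn hY hh) hBn hX hf
  have hXn : Noe X := Noe.of_sft hX hBn hf
  exact ⟨Xc, j, g, hXc, hj, qcMor_of_noe hXn hXc j (Noe.of_sft hXc hBn (sft_of_proper hg)).qs, hg, hjg⟩

/-- The statement of S10697 from the dilatation theorem and the absolute approximation theorems. -/
theorem main (HP : ∀ ⦃V : Over (⊤_ Scheme.{u})⦄, IsAffine V.left → Noe ((yon (⊤_ Scheme.{u})).obj V) →
      AffComp ((yon (⊤_ Scheme.{u})).obj V) → Partial ((yon (⊤_ Scheme.{u})).obj V))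
    (H38 : K604.NagRed.ClosedInSep (⊤_ Scheme.{u})) (H40 : K601.RelApprox.MorLim (⊤_ Scheme.{u}))
    {S : Scheme.{u}} [QuasiSeparatedSpace S] {X B : AlgSp.Space S} (f : X ⟶ B)
    (hBqc : AlgSp.IsQuasiCompactSp B.obj) (hBqs : AlgSp.IsQuasiSeparatedSp B.obj)
    (hsep : AlgSp.IsSeparatedMor f.hom) (hft : AlgSp.IsFiniteTypeMor f.hom) :
    ∃ (Xc : AlgSp.Space S) (j : X ⟶ Xc) (g : Xc ⟶ B), AlgSp.RepWith @IsOpenImmersion j.hom ∧
      AlgSp.IsQuasiCompactMor j.hom ∧ AlgSp.IsProperMor g.hom ∧ j ≫ g = f := by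
  have hS₁ : IsTerminal (⊤_ Scheme.{u}) := terminalIsTerminal
  have := K633.AbsMor.isAffine_of_isTerminal hS₁
  have : QuasiSeparatedSpace (⊤_ Scheme.{u} : Scheme.{u}) := inferInstance
  exact K604.NagRed.main (nagNoe HP) H38 H40 f hBqc hBqs hsep hft

end K614.NagFin
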