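import Groth.Agent.AlgSp.K640.Loc
import Groth.Agent.AlgSp.K640.ElemSep
import Groth.Agent.S10696
import Groth.Agent.AlgSp.K616.BaseChange

/-!
# Gluing algebraic spaces over the two pieces of an elementary distinguished square

* `isPullback_of_local`: a square of sheaves is cartesian if the pair of projections is injective on maps from schemes
  and liftings exist locally.
* `exists_glue`: algebraic spaces `A ⟶ U`, `B ⟶ V` with an identification over `U ×_W V` come from `T ⟶ W`.
-/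

set_option autoImplicit false
universe u
open CategoryTheory CategoryTheory.Limits AlgebraicGeometry Opposite
open AlgSp K613.Basic K613.Cover K640.Joint K640.Loc K640.ElemDist

namespace K614.NagGlue

variable {S : Scheme.{u}} {F G H P U V W X Y A B C T : Sp S}

theorem isPullback_of_local {f : F ⟶ G} {g : H ⟶ G} {fst : P ⟶ F} {snd : P ⟶ H} (w : fst ≫ f = snd ≫ g)
    (uniq : ∀ (T : Over S) (x y : (yon S).obj T ⟶ P), x ≫ fst = y ≫ fst → x ≫ snd = y ≫ snd → x = y)
    (ex : ∀ (T : Over S) (a : (yon S).obj T ⟶ F) (b : (yon S).obj T ⟶ H), a ≫ f = b ≫ g →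
      Locally T (fun T' c => ∃ z : (yon S).obj T' ⟶ P, z ≫ fst = (yon S).map c ≫ a ∧ z ≫ snd = (yon S).map c ≫ b)) :
    IsPullback fst snd f g := by
  refine isPullback_of_yon w fun T a b hab => ?_
  obtain ⟨z, hz⟩ := Locally.glue (F := P)
    (Q := fun T' c z => z ≫ fst = (yon S).map c ≫ a ∧ z ≫ snd = (yon S).map c ≫ b)
    (fun T' T'' c d z hz => ⟨by rw [Category.assoc, hz.1, Functor.map_comp, Category.assoc],
      by rw [Category.assoc, hz.2, Functor.map_comp, Category.assoc]⟩)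
    (fun T' c z z' hz hz' => uniq T' z z' (hz.1.trans hz'.1.symm) (hz.2.trans hz'.2.symm)) (ex T a b hab)
  have h1 : z ≫ fst = a := Locally.ext (hz.imp fun T' c h => by rw [← Category.assoc, h.1])
  have h2 : z ≫ snd = b := Locally.ext (hz.imp fun T' c h => by rw [← Category.assoc, h.2])
  exact ⟨z, ⟨h1, h2⟩, fun z' hz' => uniq T z' z (hz'.1.trans h1.symm) (hz'.2.trans h2.symm)⟩

theorem mono_open {f : F ⟶ G} (h : RepWith @IsOpenImmersion f) : Mono f := K640.EtGlue.mono_of_openImmersion h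

/-- a lift through one of two jointly locally surjective maps -/
theorem locally_cases {α : A ⟶ T} {β : B ⟶ T} (h : JSurj (famMap α β)) {R : Over S} (x : (yon S).obj R ⟶ T) :
    Locally R (fun R' c => (∃ y : (yon S).obj R' ⟶ A, y ≫ α = (yon S).map c ≫ x) ∨
      ∃ z : (yon S).obj R' ⟶ B, z ≫ β = (yon S).map c ≫ x) := by
  refine (h.locally x).imp fun R' c h => ?_
  obtain ⟨k, z, hz⟩ := h
  match k, z, hz with
  | true, z, hz => exact Or.inl ⟨z, hz⟩
  | false, z, hz => exact Or.inr ⟨z, hz⟩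

/-- two lifts to the etale part of an elementary distinguished square -/
theorem locally_eq_or {α : A ⟶ T} {β : B ⟶ T} (hB : IsAlgSpace B) (h : IsElemDistSq α β) {R : Over S}
    (x y : (yon S).obj R ⟶ B) (hxy : x ≫ β = y ≫ β) :
    Locally R (fun R' c => (∃ z : (yon S).obj R' ⟶ A, z ≫ α = (yon S).map c ≫ x ≫ β) ∨
      (yon S).map c ≫ x = (yon S).map c ≫ y) := by
  obtain ⟨R₁, R₂, c₁, c₂, z₁, hc, h1, h2⟩ := fpC₂_of_isElemDistSq hB h x y hxy
  refine Locally.of_fpC₂ hc (fun Z d => Or.inl ⟨(yon S).map d ≫ z₁, ?_⟩) (fun Z d => Or.inr ?_)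
  · rw [Category.assoc, h1, Functor.map_comp, Category.assoc]
  · rw [Functor.map_comp, Category.assoc, Category.assoc, h2]

/-- Gluing over an elementary distinguished square. -/
theorem exists_glue (hA : IsAlgSpace A) (hB : IsAlgSpace B) (hC : IsAlgSpace C) (hV : IsAlgSpace V)
    {j : U ⟶ W} {φ : V ⟶ W} (hsq : IsElemDistSq j φ) {p : P ⟶ U} {q : P ⟶ V} (hP : IsPullback p q j φ)
    {a : A ⟶ U} {b : B ⟶ V} {c₁ : C ⟶ A} {c₂ : C ⟶ B}
    {c₀ : C ⟶ P} (h₁ : IsPullback c₁ c₀ a p) (h₂ : IsPullback c₂ c₀ b q) (hc₁ : IsSeparatedMor c₁)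
    (hc₁e : IsEtaleMor c₁) :
    ∃ (T : Sp S) (t : T ⟶ W) (α : A ⟶ T) (β : B ⟶ T), IsAlgSpace T ∧ IsPullback α a t j ∧ IsPullback β b t φ ∧
      IsPullback c₂ c₁ β α ∧ IsElemDistSq α β ∧ IsPushout c₂ c₁ β α := by
  have hq : RepWith @IsOpenImmersion q := MorphismProperty.of_isPullback hP hsq.1
  have hc₂ : RepWith @IsOpenImmersion c₂ := MorphismProperty.of_isPullback h₂.flip hq
  have hjm : Mono j := mono_open hsq.1
  have hqm : Mono q := mono_open hq
  obtain ⟨T, α, β, hpo, hpb, hel⟩ := Groth.Agent.S10696.result (S := S) (U := ⟨A, hA⟩) (V := ⟨B, hB⟩) (V' := ⟨C, hC⟩)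
    (ObjectProperty.homMk c₂) hc₂ (ObjectProperty.homMk c₁) hc₁ hc₁e
  obtain ⟨T, hT⟩ := T
  obtain ⟨α⟩ := α
  obtain ⟨β⟩ := β
  change A ⟶ T at α
  change B ⟶ T at β
  change IsPullback c₂ c₁ β α at hpb
  change IsElemDistSq α β at hel
  have hJ := jSurj_of_isElemDistSq hB hel
  have hJ' := jSurj_of_isElemDistSq hV hsq
  have hαm : Mono α := mono_open hel.1
  have hpo' : IsPushout c₁ c₂ α β := isPushout_of_isElemDistSq hB hel hpb.flip
  have w : c₁ ≫ a ≫ j = c₂ ≫ b ≫ φ := by
    rw [← Category.assoc, h₁.w, Category.assoc, hP.w, ← Category.assoc, ← h₂.w, Category.assoc]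
  let t : T ⟶ W := hpo'.desc (a ≫ j) (b ≫ φ) w
  have ht1 : α ≫ t = a ≫ j := hpo'.inl_desc _ _ _
  have ht2 : β ≫ t = b ≫ φ := hpo'.inr_desc _ _ _
  -- from `B` to `A`
  have key : ∀ (R : Over S) (z : (yon S).obj R ⟶ B) (u : (yon S).obj R ⟶ U), u ≫ j = z ≫ b ≫ φ →
      ∃ w : (yon S).obj R ⟶ C, w ≫ c₂ = z ∧ w ≫ c₁ ≫ a = u := by
    intro R z u hu
    have e1 : z ≫ b = hP.lift u (z ≫ b) (by rw [hu, Category.assoc]) ≫ q := (hP.lift_snd _ _ _).symm
    refine ⟨h₂.lift z (hP.lift u (z ≫ b) (by rw [hu, Category.assoc])) e1, h₂.lift_fst _ _ _, ?_⟩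
    rw [h₁.w, ← Category.assoc, h₂.lift_snd, hP.lift_fst]
  have sqA : IsPullback α a t j := by
    refine isPullback_of_local ht1 (fun R x y h _ => by rwa [cancel_mono] at h) fun R x u hxu => ?_
    refine (locally_cases hJ x).imp fun R' c h => ?_
    rcases h with ⟨y, hy⟩ | ⟨z, hz⟩
    · refine ⟨y, hy, ?_⟩
      rw [← cancel_mono j, Category.assoc, ← ht1, ← Category.assoc, hy, Category.assoc, hxu, Category.assoc]
    · obtain ⟨w', hw1, hw2⟩ := key R' z ((yon S).map c ≫ u) (by
        rw [Category.assoc, ← hxu, ← ht2, ← Category.assoc z, hz, Category.assoc])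
      refine ⟨w' ≫ c₁, ?_, ?_⟩
      · rw [Category.assoc, ← hpb.w, ← Category.assoc, hw1, hz]
      · rw [Category.assoc, hw2]
  have sqB : IsPullback β b t φ := by
    refine isPullback_of_local ht2 (fun R z z' h h' => ?_) fun R x v hxv => ?_
    · refine Locally.ext ((locally_eq_or hB hel z z' h).imp fun R' c hc => ?_)
      rcases hc with ⟨y, hy⟩ | h3
      · have e1 : ((yon S).map c ≫ z) ≫ β = y ≫ α := by rw [hy, Category.assoc]
        have e2 : ((yon S).map c ≫ z') ≫ β = y ≫ α := by rw [hy, Category.assoc, h]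
        have e3 : hpb.lift _ _ e1 = hpb.lift _ _ e2 := by
          apply h₁.hom_ext
          · rw [hpb.lift_snd, hpb.lift_snd]
          · rw [← cancel_mono q, Category.assoc, Category.assoc, ← h₂.w, ← Category.assoc, ← Category.assoc,
              hpb.lift_fst, hpb.lift_fst, Category.assoc, Category.assoc, h']
        rw [← hpb.lift_fst _ _ e1, e3, hpb.lift_fst]
      · exact h3
    · -- the case of a point of `A`
      have caseA : ∀ (R' : Over S) (y : (yon S).obj R' ⟶ A) (v' : (yon S).obj R' ⟶ V),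
          y ≫ a ≫ j = v' ≫ φ → ∃ z : (yon S).obj R' ⟶ B, z ≫ β = y ≫ α ∧ z ≫ b = v' := by
        intro R' y v' h
        have e0 : (y ≫ a) ≫ j = v' ≫ φ := by rw [Category.assoc, h]
        have e1 : y ≫ a = hP.lift (y ≫ a) v' e0 ≫ p := (hP.lift_fst _ _ _).symm
        refine ⟨h₁.lift y _ e1 ≫ c₂, ?_, ?_⟩
        · rw [Category.assoc, hpb.w, ← Category.assoc, h₁.lift_fst]
        · rw [Category.assoc, h₂.w, ← Category.assoc, h₁.lift_snd, hP.lift_snd]
      refine (locally_cases hJ x).bind fun R' c h => ?_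
      rcases h with ⟨y, hy⟩ | ⟨z, hz⟩
      · refine Locally.of_forall fun R'' d => ?_
        obtain ⟨z, hz1, hz2⟩ := caseA R'' ((yon S).map d ≫ y) ((yon S).map (d ≫ c) ≫ v) (by
          rw [Category.assoc, Category.assoc, ← hxv, ← ht1, ← Category.assoc y, hy, Functor.map_comp]
          simp only [Category.assoc])
        refine ⟨z, ?_, hz2⟩
        rw [hz1, Category.assoc, hy, Functor.map_comp, Category.assoc]
      · have e0 : (z ≫ b) ≫ φ = ((yon S).map c ≫ v) ≫ φ := by
          rw [Category.assoc, Category.assoc, ← ht2, ← Category.assoc, hz, Category.assoc, hxv]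
        refine (locally_eq_or hV hsq (z ≫ b) ((yon S).map c ≫ v) e0).imp fun R'' d h => ?_
        rcases h with ⟨u, hu⟩ | h
        · obtain ⟨w', hw1, hw2⟩ := key R'' ((yon S).map d ≫ z) u (by
            rw [hu]; simp only [Category.assoc])
          obtain ⟨z', hz1, hz2⟩ := caseA R'' (w' ≫ c₁) ((yon S).map (d ≫ c) ≫ v) (by
            have e1 : (w' ≫ c₁) ≫ a ≫ j = (w' ≫ c₁ ≫ a) ≫ j := by simp only [Category.assoc]
            rw [e1, hw2, hu, Category.assoc, Category.assoc, ← Category.assoc z, e0, Functor.map_comp]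
            simp only [Category.assoc])
          refine ⟨z', ?_, hz2⟩
          rw [hz1, Category.assoc, ← hpb.w, ← Category.assoc, hw1, Category.assoc, hz, Functor.map_comp,
            Category.assoc]
        · refine ⟨(yon S).map d ≫ z, ?_, ?_⟩
          · rw [Category.assoc, hz, Functor.map_comp, Category.assoc]
          · rw [Category.assoc, h, Functor.map_comp, Category.assoc]
  exact ⟨T, t, α, β, hT, sqA, sqB, hpb, hel, hpo'.flip⟩

end K614.NagGlue
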