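import Groth.Agent.AlgSp.K614.NagGlue
import Groth.Agent.S10505
import Groth.Agent.AlgSp.K597.LocP
import Groth.Agent.AlgSp.K613.Chart
import Groth.Agent.AlgSp.K598.ElemSq

/-!
# Elementary distinguished squares are fpqc coverings; locality of properties over them
-/

set_option autoImplicit false
universe u
open CategoryTheory CategoryTheory.Limits AlgebraicGeometry Opposite
open AlgSp K613.Basic K613.Cover K640.Joint K640.Loc K640.ElemDist

namespace K614.NagLoc

variable {S : Scheme.{u}} {F G H P U V W X Y A B C T : Sp S}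

theorem isEtaleMor_of_open {f : F ⟶ G} (h : RepWith @IsOpenImmersion f) : IsEtaleMor f :=
  K598.ElemSq.isEtaleMor_of_open h

theorem flat_of_etale {f : F ⟶ G} (h : IsEtaleMor f) : LocP @Flat f := fun U V a b k ha hb w => by
  have := K597.locP_etale_of_isEtaleMor h a b k ha hb w
  infer_instance

theorem lfp_of_etale {f : F ⟶ G} (h : IsEtaleMor f) : LocP @LocallyOfFinitePresentation f :=
  fun U V a b k ha hb w => by
  have := K597.locP_etale_of_isEtaleMor h a b k ha hb w
  infer_instance

/-- points of the target of an elementary distinguished square -/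
theorem surj_points {j : U ⟶ W} {φ : V ⟶ W} (h : IsElemDistSq j φ) (x : Points W) :
    x ∈ Set.range (Points.map j) ∨ x ∈ Set.range (Points.map φ) := by
  by_cases hx : x ∈ Set.range (Points.map j)
  · exact Or.inl hx
  · right
    obtain ⟨hj, hf, T, P', i, p₁, p₂, ⟨hi, hrange, hred⟩, sq, hiso⟩ := h
    have hx' : x ∈ Set.range (Points.map i) := by rw [hrange]; exact hx
    obtain ⟨y, hy⟩ := hx'
    refine ⟨Points.map p₂ (Points.map (inv p₁) y), ?_⟩
    rw [← Points.map_comp, ← Points.map_comp, ← sq.w, IsIso.inv_hom_id_assoc, hy]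

/-- the two-element family of spaces -/
abbrev spFam (A B : Space S) : ULift.{u} Bool → Space S := fun k => match k with | ⟨true⟩ => A | ⟨false⟩ => B

/-- the two-element family of maps -/
abbrev spMap {A B T : Space S} (α : A ⟶ T) (β : B ⟶ T) : ∀ k, spFam A B k ⟶ T :=
  fun k => match k with | ⟨true⟩ => α | ⟨false⟩ => β

theorem isFpqcCover₂ {A B T : Space S} (α : A ⟶ T) (β : B ⟶ T) (hα : IsEtaleMor α.hom) (hβ : IsEtaleMor β.hom)
    (h : ∀ x : Points T.obj, x ∈ Set.range (Points.map α.hom) ∨ x ∈ Set.range (Points.map β.hom)) :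
    IsFpqcCover (fun k => (spFam A B k).obj) (fun k => (spMap α β k).hom) := by
  refine Groth.Agent.S10505.result T (spFam A B) (spMap α β) ⟨fun k => ?_, fun x => ?_⟩
  · match k with
    | ⟨true⟩ => exact ⟨flat_of_etale hα, lfp_of_etale hα⟩
    | ⟨false⟩ => exact ⟨flat_of_etale hβ, lfp_of_etale hβ⟩
  · rcases h x with h | h
    · exact ⟨⟨true⟩, h⟩
    · exact ⟨⟨false⟩, h⟩

/-- locality of a property over a covering by two etale maps -/
theorem of_cover₂ {Pr : MorphismProperty (Sp S)} (hPr : IsLocalOnBase (IsFpqcCover (S := S)) Pr)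
    (hW : IsAlgSpace W) (hU : IsAlgSpace U) (hV : IsAlgSpace V) (hT : IsAlgSpace T)
    {j : U ⟶ W} {φ : V ⟶ W} (hj : IsEtaleMor j) (hφ : IsEtaleMor φ)
    (h : ∀ x : Points W, x ∈ Set.range (Points.map j) ∨ x ∈ Set.range (Points.map φ))
    {t : T ⟶ W} {α : A ⟶ T} {a : A ⟶ U} (sqA : IsPullback α a t j) {β : B ⟶ T} {b : B ⟶ V}
    (sqB : IsPullback β b t φ) (ha : Pr a) (hb : Pr b) : Pr t := by
  have hA : IsAlgSpace A := K613.Chart.isAlgSpace_of_isPullback hW.diag hT hU sqA
  have hB : IsAlgSpace B := K613.Chart.isAlgSpace_of_isPullback hW.diag hT hV sqB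
  let W' : Space S := ⟨W, hW⟩
  let U' : Space S := ⟨U, hU⟩
  let V' : Space S := ⟨V, hV⟩
  let A' : Space S := ⟨A, hA⟩
  let B' : Space S := ⟨B, hB⟩
  let T' : Space S := ⟨T, hT⟩
  have hc := isFpqcCover₂ (A := U') (B := V') (T := W') ⟨j⟩ ⟨φ⟩ hj hφ h
  refine (hPr (fun k => (spFam U' V' k).obj) _ hW (fun k => (spFam U' V' k).property) hc t hT
    (fun k => (spFam A' B' k).obj) (fun k => match k with | ⟨true⟩ => a | ⟨false⟩ => b)
    (fun k => match k with | ⟨true⟩ => α | ⟨false⟩ => β) (fun k => (spFam A' B' k).property) (fun k => ?_)).2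
    (fun k => ?_)
  · match k with
    | ⟨true⟩ => exact sqA
    | ⟨false⟩ => exact sqB
  · match k with
    | ⟨true⟩ => exact ha
    | ⟨false⟩ => exact hb

end K614.NagLoc
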