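import Groth.Agent.AlgSp.K614.NagStep
import Groth.Agent.AlgSp.K642.Charts
import Groth.Agent.AlgSp.K647.Proper
import Groth.Agent.AlgSp.K598.EtInd
import Groth.Agent.S10768
import Groth.Agent.S0384

/-!
# Compactifications over a Noetherian algebraic space from the case of an affine base

* `comp_yon`: Nagata's theorem for schemes, in the form needed.
* `main`: the induction over the base.
-/

set_option autoImplicit false
universe u
open CategoryTheory CategoryTheory.Limits AlgebraicGeometry Opposite TopologicalSpace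
open AlgSp K598.RepKit K598.ClFam K598.Charts K598.SchImg K647.FamOps
open K619.NagKit K619.NagDom K619.NagT3 K619.NagGlue K619.NagMain

namespace K614.NagR

variable {S : Scheme.{u}} {F G H P U V W X Y A B C T : Sp S}

/-- Nagata's theorem for schemes. -/
theorem comp_yon {T V : Over S} [CompactSpace V.left] [QuasiSeparatedSpace V.left] (h : T ⟶ V)
    [IsSeparated h.left] [QuasiCompact h.left] [LocallyOfFiniteType h.left] : Comp ((yon S).map h) := by
  obtain ⟨Xc, j, g, hj, -, hg, hjg⟩ := Groth.Agent.S0384.result h.left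
  let Z : Over S := Over.mk (g ≫ V.hom)
  let g' : Z ⟶ V := Over.homMk g rfl
  let j' : T ⟶ Z := Over.homMk j (by
    change j ≫ g ≫ V.hom = T.hom
    rw [← Category.assoc, hjg, Over.w])
  have hj' : IsOpenImmersion j'.left := hj
  have hg' : IsProper g'.left := hg
  refine ⟨(yon S).obj Z, (yon S).map j', (yon S).map g', IsAlgSpace.yon_obj _, (repWith_yon_map_iff _ _).2 hj',
    K647.Proper.isProperMor_yon_map g', ?_⟩
  rw [← Functor.map_comp]
  congr 1
  exact Over.OverMorphism.ext hjg

/-- Affine schemes of finite type over an affine scheme are compactifiable. -/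
theorem comp_affine {T V : Over S} [IsAffine V.left] [IsAffine T.left] (h : (yon S).obj T ⟶ (yon S).obj V)
    (hft : IsFiniteTypeMor h) : Comp h := by
  obtain ⟨h', rfl⟩ := (yon S).map_surjective h
  have h1 : LocallyOfFiniteType h'.left := locP_yon_map hft.1
  exact comp_yon h'

/-- The empty space is compactifiable. -/
theorem comp_of_isEmpty (hX : IsAlgSpace X) (hY : IsAlgSpace Y) (f : X ⟶ Y) (h : IsEmpty (Points X)) : Comp f :=
  ⟨X, 𝟙 X, f, hX, repWith_of_isIso _, K597.ProperSub.isProperMor_of_closed hY (closed_of_isEmpty hX hY f h),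
    Category.id_comp f⟩

/-- A quasi-compact scheme etale over a Noetherian space is Noetherian. -/
theorem noe_yon (hW : Noe W) {T : Over S} (hT : IsAffine T.left) {φ : (yon S).obj T ⟶ W} (hφ : IsEtaleMor φ) :
    Noe ((yon S).obj T) := by
  have h1 : RepWith @Etale φ := by
    have h2 := hφ (𝟙 _) (repWith_of_isIso _)
    rwa [Category.id_comp] at h2
  exact ⟨IsAlgSpace.yon_obj _, K596.QC.isQuasiCompactSp_yon T, K598.EtInd.isQuasiSeparatedSp_yon hT,
    ⟨T, 𝟙 _, repWith_of_isIso _, repWith_of_isIso _, hW.locallyNoeth h1⟩⟩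

theorem isElemDistSq_iso {V' : Sp S} {j : U ⟶ W} {f : V ⟶ W} (e : V' ≅ V) (h : IsElemDistSq j f) :
    IsElemDistSq j (e.hom ≫ f) := by
  obtain ⟨hj, hf, T, P', i, p₁, p₂, hi, sq, hiso⟩ := h
  refine ⟨hj, fun U φ hφ => ?_, T, P', i, p₁, p₂ ≫ e.inv, hi, ?_, hiso⟩
  · rw [← Category.assoc]
    exact hf (φ ≫ e.hom) ((repWith_isMultiplicative (S := S) @Etale).comp_mem _ _ hφ (repWith_of_isIso e.hom))
  · exact sq.of_iso (Iso.refl _) (Iso.refl _) e.symm (Iso.refl _) (by simp) (by simp) (by simp) (by simp)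

/-- **Compactifications over a Noetherian algebraic space, from the case of affine schemes.** -/
theorem main [QuasiSeparatedSpace ↥S] (H : ∀ (V : Over S), IsAffine V.left → Noe ((yon S).obj V) →
      ∀ ⦃Y : Sp S⦄ (h : Y ⟶ (yon S).obj V), IsAlgSpace Y → SFT h → Comp h)
    (hB : Noe B) (hX : IsAlgSpace X) {f : X ⟶ B} (hf : SFT f) : Comp f := by
  have hw := K610.Sub.repWith_openPred (X := B) (W := ∅) isOpen_empty
  have hwr := K610.Sub.range_openPred (X := B) ∅
  set w := (K610.Sub.openPred (X := B) ∅).ι with hwdef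
  have hWa : IsAlgSpace (K610.Sub.openPred (X := B) ∅).sub := alg_of_open hw hB.alg
  have hWe : IsEmpty (Points (K610.Sub.openPred (X := B) ∅).sub) := ⟨fun t => by
    have h1 : Points.map w t ∈ (∅ : Set (Points B)) := hwr.subset ⟨t, rfl⟩
    exact h1⟩
  refine Groth.Agent.S10768.result (S := S) ⟨B, hB.alg⟩ hB.qc hB.qs
    (fun U _ => ∀ ⦃X : Sp S⦄ (f : X ⟶ U.obj), IsAlgSpace X → SFT f → Comp f)
    ⟨_, hWa⟩ (ObjectProperty.homMk w) hw (noe_of_open hw hB).qc ?_ ?_ f hX hf
  · intro X f hX _
    exact comp_of_isEmpty hX hWa f ⟨fun x => hWe.false (Points.map f x)⟩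
  · intro W₁ W₂ V j₁ j₂ k m φ hj₁ hj₂ hk hm hq₁ hq₂ hV hed hc X f hX hf
    obtain ⟨T, hT, ⟨e⟩⟩ := hV
    have hW₂ : Noe W₂.obj := noe_of_open hj₂ hB
    have hed' := isElemDistSq_iso e hed
    have hTn : Noe ((yon S).obj T) := noe_yon hW₂ hT hed'.2.1
    obtain ⟨XU, pU, fU, sqU⟩ := NagStep.exists_pb f k.hom
    have hXU : IsAlgSpace XU := K613.Chart.isAlgSpace_of_isPullback W₂.property.diag hX W₁.property sqU
    exact NagStep.step hW₂ hTn hed' (K642.Charts.isSeparatedMor_of_isAffine hT _) hX hf sqU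
      (hc fU hXU (SFT.bc hX W₂.property W₁.property sqU hf)) (H T hT hTn)

end K614.NagR
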