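import Groth.Agent.AlgSp.K614.NagLoc
import Groth.Agent.AlgSp.K619.NagNoe
import Groth.Agent.AlgSp.K609.QC
import Groth.Agent.S10531
import Groth.Agent.S10536

/-!
# Compactifications over an elementary distinguished square of the base

* `isPushout_bc`: the base change of an elementary distinguished square is a pushout.
* `step`: if `(U ⊂ W, φ : V ⟶ W)` is an elementary distinguished square of Noetherian spaces, `φ` is separated and every
  separated space of finite type over `V` is compactifiable, then `f : X ⟶ W` is compactifiable as soon as its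
  restriction to `U` is.
-/

set_option autoImplicit false
universe u
open CategoryTheory CategoryTheory.Limits AlgebraicGeometry Opposite TopologicalSpace
open AlgSp K613.Basic K613.Cover K640.Joint K640.Loc K640.ElemDist
open K598.RepKit K598.ClFam K598.Charts K598.SchImg K647.FamOps
open K619.NagKit K619.NagDom K619.NagT3 K619.NagGlue K619.NagMain

namespace K614.NagStep

variable {S : Scheme.{u}} {F G H P U V W X Y A B C T XU XV XP : Sp S}

/-- The base change of an elementary distinguished square is a pushout. -/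
theorem isPushout_bc (hV : IsAlgSpace V) {j : U ⟶ W} {φ : V ⟶ W} (h : IsElemDistSq j φ) {f : X ⟶ W}
    {pU : XU ⟶ X} {fU : XU ⟶ U} (sqU : IsPullback pU fU f j) {pV : XV ⟶ X} {fV : XV ⟶ V}
    (sqV : IsPullback pV fV f φ) {a : XP ⟶ XU} {b : XP ⟶ XV} (sqP : IsPullback a b pU pV) :
    IsPushout a b pU pV := by
  have hm : Mono pU := NagGlue.mono_open (MorphismProperty.of_isPullback (P := RepWith @IsOpenImmersion) sqU.flip h.1)
  have hJ : JSurj (famMap pU pV) := by
    intro R g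
    obtain ⟨ι, R', c, k, z, hc, hz⟩ := jSurj_of_isElemDistSq hV h R (g ≫ f)
    have key : ∀ i, ∃ y : (yon S).obj (R' i) ⟶ fam XU XV (k i), y ≫ famMap pU pV (k i) = (yon S).map (c i) ≫ g := by
      intro i
      have hi := hz i
      rcases hk : k i with _ | _
      · have h1 : ∀ (z' : (yon S).obj (R' i) ⟶ fam U V (k i)),
            z' ≫ famMap j φ (k i) = (yon S).map (c i) ≫ g ≫ f →
            ∃ z'' : (yon S).obj (R' i) ⟶ V, z'' ≫ φ = (yon S).map (c i) ≫ g ≫ f := by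
          rw [hk]
          exact fun z' hz' => ⟨z', hz'⟩
        obtain ⟨z'', hz''⟩ := h1 _ hi
        exact ⟨sqV.lift ((yon S).map (c i) ≫ g) z'' (by rw [hz'', Category.assoc]), sqV.lift_fst _ _ _⟩
      · have h1 : ∀ (z' : (yon S).obj (R' i) ⟶ fam U V (k i)),
            z' ≫ famMap j φ (k i) = (yon S).map (c i) ≫ g ≫ f →
            ∃ z'' : (yon S).obj (R' i) ⟶ U, z'' ≫ j = (yon S).map (c i) ≫ g ≫ f := by
          rw [hk]
          exact fun z' hz' => ⟨z', hz'⟩
        obtain ⟨z'', hz''⟩ := h1 _ hi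
        exact ⟨sqU.lift ((yon S).map (c i) ≫ g) z'' (by rw [hz'', Category.assoc]), sqU.lift_fst _ _ _⟩
    choose y hy using key
    exact ⟨ι, R', c, k, y, hc, hy⟩
  refine isPushout_of_jSurj hJ sqP (fun R u v huv F x₁ x₂ hx => ?_) (fun R u v huv F x₁ x₂ hx => ?_)
  · rw [cancel_mono] at huv
    rw [huv]
  · obtain ⟨R₁, R₂, c₁, c₂, z₁, hc, hz₁, h2⟩ := fpC₂_of_isElemDistSq hV h (u ≫ fV) (v ≫ fV) (by
      rw [Category.assoc, Category.assoc, ← sqV.w, ← Category.assoc, huv, Category.assoc])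
    refine hc.ext ?_ ?_
    · have e1 : ((yon S).map c₁ ≫ u ≫ pV) ≫ f = z₁ ≫ j := by
        rw [hz₁, Category.assoc, Category.assoc, Category.assoc, sqV.w]
      let w : (yon S).obj R₁ ⟶ XU := sqU.lift _ _ e1
      have hw : w ≫ pU = (yon S).map c₁ ≫ u ≫ pV := sqU.lift_fst _ _ _
      have hu : w ≫ pU = ((yon S).map c₁ ≫ u) ≫ pV := by rw [hw, Category.assoc]
      have hv : w ≫ pU = ((yon S).map c₁ ≫ v) ≫ pV := by rw [hw, Category.assoc, huv]
      rw [← Category.assoc, ← Category.assoc, ← sqP.lift_snd _ _ hu, ← sqP.lift_snd _ _ hv, Category.assoc,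
        Category.assoc, ← hx, ← Category.assoc, ← Category.assoc, sqP.lift_fst, sqP.lift_fst]
    · have e1 : (yon S).map c₂ ≫ u = (yon S).map c₂ ≫ v := by
        apply sqV.hom_ext
        · rw [Category.assoc, Category.assoc, huv]
        · rw [Category.assoc, Category.assoc, h2]
      rw [← Category.assoc, ← Category.assoc, e1]

/-- A space covered by two quasi-compact spaces is quasi-compact. -/
theorem qc_of_cover₂ (hT : IsAlgSpace T) {α : A ⟶ T} {β : B ⟶ T} (hA : IsQuasiCompactSp A) (hB : IsQuasiCompactSp B)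
    (h : ∀ x : Points T, x ∈ Set.range (Points.map α) ∨ x ∈ Set.range (Points.map β)) : IsQuasiCompactSp T := by
  rw [K609.QC.isQuasiCompactSp_iff hT]
  have h1 := K610.Noeth.compactSpace_points hA
  have h2 := K610.Noeth.compactSpace_points hB
  refine ⟨?_⟩
  have h3 : (Set.univ : Set (Points T)) = Set.range (Points.map α) ∪ Set.range (Points.map β) :=
    (Set.eq_univ_of_forall h).symm
  rw [h3]
  exact (isCompact_range (Points.continuous_map α)).union (isCompact_range (Points.continuous_map β))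

section

variable [QuasiSeparatedSpace ↥S]

/-- Gluing `XV` and a separated `AP ⟶ P` over the open subspace `P` of `V`. -/
theorem exists_bplus (hV : Noe V) {q : P ⟶ V} (hq : RepWith @IsOpenImmersion q) (hXV : IsAlgSpace XV) {fV : XV ⟶ V}
    (hfV : SFT fV) (hA : IsAlgSpace A) {a : A ⟶ P} (ha : SFT a) {o : XP ⟶ XV} {c₀ : XP ⟶ P}
    (sq : IsPullback o c₀ fV q) {m : XP ⟶ A} (hm : RepWith @IsOpenImmersion m) (hma : m ≫ a = c₀) :
    ∃ (B : Sp S) (jX : XV ⟶ B) (jN : A ⟶ B) (b : B ⟶ V), IsAlgSpace B ∧ RepWith @IsOpenImmersion jX ∧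
      RepWith @IsOpenImmersion jN ∧ SFT b ∧ jX ≫ b = fV ∧ IsPullback jN a b q ∧ m ≫ jN = o ≫ jX := by
  have hP : IsAlgSpace P := alg_of_open hq hV.alg
  have hPn : Noe P := noe_of_open hq hV
  have hAn : Noe A := Noe.of_sft hA hPn ha
  have hXVn : Noe XV := Noe.of_sft hXV hV hfV
  have hqm : Mono q := mono_of_repWith_isOpenImmersion hq
  have ho : RepWith @IsOpenImmersion o := repWith_of_isPullback sq.flip hq
  obtain ⟨B, jX, jN, hB, hjX, hjN, hed, hpb⟩ := exists_glue hXV hA ho hm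
  have hjNm : Mono jN := mono_of_repWith_isOpenImmersion hjN
  have hpo : IsPushout m o jN jX := K640.ElemDist.isPushout_of_isElemDistSq hXV hed hpb
  have w1 : m ≫ a ≫ q = o ≫ fV := by rw [← Category.assoc, hma, sq.w]
  obtain ⟨b, hb1, hb2⟩ : ∃ b : B ⟶ V, jN ≫ b = a ≫ q ∧ jX ≫ b = fV :=
    ⟨hpo.desc _ _ w1, hpo.inl_desc _ _ _, hpo.inr_desc _ _ _⟩
  have haq : SFT (a ≫ q) := SFT.comp hA hP hV.alg ha (sft_of_open hq hV)
  -- the closed graph
  have hcg : CG (jN ≫ b) (jX ≫ b) m o := by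
    rw [hb1, hb2]
    have s1 : IsPullback (pullback.fst a c₀) (pullback.snd a c₀ ≫ o) (a ≫ q) fV := by
      have h1 := IsPullback.of_hasPullback a c₀
      refine K613.Basic.isPullback_of_yon ?_ fun T x y hxy => ?_
      · rw [← Category.assoc, h1.w, Category.assoc, Category.assoc, sq.w]
      · have e1 : y ≫ fV = (x ≫ a) ≫ q := by rw [← hxy, Category.assoc]
        have e2 : x ≫ a = sq.lift _ _ e1 ≫ c₀ := (sq.lift_snd _ _ _).symm
        refine ⟨h1.lift _ _ e2, ⟨h1.lift_fst _ _ _, ?_⟩, fun z hz => ?_⟩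
        · rw [← Category.assoc, h1.lift_snd, sq.lift_fst]
        · have hom : Mono o := mono_of_repWith_isOpenImmersion ho
          apply h1.hom_ext
          · rw [hz.1, h1.lift_fst]
          · rw [← cancel_mono o, Category.assoc, hz.2, h1.lift_snd, sq.lift_fst]
    have h2 := IsPullback.of_hasPullback a c₀
    have e3 : m ≫ a = 𝟙 XP ≫ c₀ := by rw [hma, Category.id_comp]
    refine CG.of_isPullback s1 (l := h2.lift m (𝟙 XP) e3) ?_ (h2.lift_fst _ _ _) ?_
    · exact closed_of_section (h2.lift_snd _ _ _) (sep_bc h2 ha.sep)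
    · rw [← Category.assoc, h2.lift_snd, Category.id_comp]
  have hsep : IsSeparatedMor b := by
    refine sep_glue hV.alg hXV hA hB hjX hed hpb b ?_ ?_ hcg
    · rw [hb2]; exact hfV.sep
    · rw [hb1]; exact haq.sep
  have hcov : ∀ w : Points B, w ∈ Set.range (Points.map jN) ∨ w ∈ Set.range (Points.map jX) := fun w => by
    by_cases hw : w ∈ Set.range (Points.map jN)
    · exact Or.inl hw
    · exact Or.inr (cover_of_isElemDistSq hed w hw)
  refine ⟨B, jX, jN, b, hB, hjX, hjN, ⟨hsep, ?_, ?_⟩, hb2, ?_, hpb.w⟩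
  · refine locP_of_family K597.etLoc_lft (W := fun b : Bool => bif b then A else XV)
      (fun b => match b with | true => jN | false => jX) b ?_ hV.alg.hasAtlas ?_ ?_ ?_
    · rintro (_ | _)
      exacts [hXV.hasAtlas, hA.hasAtlas]
    · rintro (_ | _)
      exacts [K610.OpenImm.repWith_etale_of_open hjX, K610.OpenImm.repWith_etale_of_open hjN]
    · intro w
      rcases hcov w with h | h
      exacts [⟨true, h⟩, ⟨false, h⟩]
    · rintro (_ | _)
      · change LocP _ (jX ≫ b)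
        rw [hb2]
        exact hfV.ft.1
      · change LocP _ (jN ≫ b)
        rw [hb1]
        exact haq.ft.1
  · exact K596.QC2.isQuasiCompactMor_of_qc_of_qs hB hV.alg b (qc_of_cover₂ hB hAn.qc hXVn.qc hcov) hV.qs
  · refine NagGlue.isPullback_of_local hb1 (fun R x y h _ => by rwa [cancel_mono] at h) fun R x u hxu => ?_
    refine (NagGlue.locally_cases (K640.ElemDist.jSurj_of_isElemDistSq hXV hed) x).imp fun R' c h => ?_
    rcases h with ⟨y, hy⟩ | ⟨z, hz⟩
    · refine ⟨y, hy, ?_⟩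
      rw [← cancel_mono q, Category.assoc, ← hb1, ← Category.assoc, hy, Category.assoc, hxu, Category.assoc]
    · have e1 : z ≫ fV = ((yon S).map c ≫ u) ≫ q := by
        rw [← hb2, ← Category.assoc, hz, Category.assoc, hxu, Category.assoc]
      refine ⟨sq.lift _ _ e1 ≫ m, ?_, ?_⟩
      · rw [Category.assoc, hpb.w, ← Category.assoc, sq.lift_fst, hz]
      · rw [Category.assoc, hma, sq.lift_snd]

/-- Compactify without changing the part which is already proper. -/
theorem exists_bbar (hV : Noe V) {q : P ⟶ V} (hq : RepWith @IsOpenImmersion q) (hB : IsAlgSpace B) {b : B ⟶ V}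
    (hb : SFT b) (hc : Comp b) {a : A ⟶ P} (ha : IsProperMor a) {jN : A ⟶ B} (sq : IsPullback jN a b q) :
    ∃ (B' : Sp S) (k : B ⟶ B') (b' : B' ⟶ V), IsAlgSpace B' ∧ RepWith @IsOpenImmersion k ∧ IsProperMor b' ∧
      k ≫ b' = b ∧ IsPullback (jN ≫ k) a b' q := by
  obtain ⟨B₁, k₁, b₁, hB₁, hk₁, hb₁, rfl⟩ := hc
  have hBn : Noe B := Noe.of_sft hB hV hb
  have hB₁n : Noe B₁ := Noe.of_sft hB₁ hV (sft_of_proper hb₁)
  obtain ⟨B', i, k, hB', hi, hki, hkd⟩ := exists_closure hBn hB₁n k₁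
  have him : Mono i := mono_of_repWith_isClosedImmersion hi
  have hk : RepWith @IsOpenImmersion k := rep_of_comp_mono (j := i) (by rw [hki]; exact hk₁)
  have hb' : IsProperMor (i ≫ b₁) :=
    K597.ProperSub.isProperMor_comp hB' hB₁ hV.alg (K597.ProperSub.isProperMor_of_closed hB₁ hi) hb₁
  have hP : IsAlgSpace P := alg_of_open hq hV.alg
  have sqP := IsPullback.of_hasPullback (i ≫ b₁) q
  have hP' : IsAlgSpace (pullback (i ≫ b₁) q) := K613.Chart.isAlgSpace_pullback hB' hP hV.alg _ _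
  have hfo : RepWith @IsOpenImmersion (pullback.fst (i ≫ b₁) q) := repWith_of_isPullback sqP.flip hq
  have hA : IsAlgSpace A := K613.Chart.isAlgSpace_of_isPullback hV.alg.diag hB hP sq
  have hkb : k ≫ i ≫ b₁ = k₁ ≫ b₁ := by rw [← Category.assoc, hki]
  have w : (jN ≫ k) ≫ i ≫ b₁ = a ≫ q := by rw [Category.assoc, hkb, sq.w]
  let l : A ⟶ pullback (i ≫ b₁) q := pullback.lift (jN ≫ k) a w
  have hl1 : l ≫ pullback.fst _ _ = jN ≫ k := pullback.lift_fst _ _ _
  have hl2 : l ≫ pullback.snd _ _ = a := pullback.lift_snd _ _ _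
  have sql : IsPullback jN l k (pullback.fst (i ≫ b₁) q) := by
    refine IsPullback.of_bot (v₂₁ := pullback.snd (i ≫ b₁) q) (v₂₂ := i ≫ b₁) (h₃₁ := q) ?_ hl1.symm sqP
    rw [hl2, hkb]
    exact sq
  have hlo : RepWith @IsOpenImmersion l := repWith_of_isPullback sql hk
  have hkq : IsQuasiCompactMor k := qcMor_of_noe hBn hB' k (Noe.of_sft hB' hB₁n (sft_of_closed hi hB₁)).qs
  have hld : SDom l := hkd.bc hB' hkq hfo sql
  have hlp : IsProperMor l := by
    refine K597.ProperCancel.isProperMor_of_comp hA hP' hP (g := pullback.snd (i ≫ b₁) q) ?_ ?_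
    · rw [hl2]; exact ha
    · exact sep_bc sqP hb'.1
  have hlc := closed_of_proper_open hP' hlo hlp
  have hiso : IsIso l := hld.isIso hlc (Category.id_comp l)
  refine ⟨B', k, i ≫ b₁, hB', hk, hb', hkb, ?_⟩
  exact IsPullback.of_iso sqP (asIso l).symm (Iso.refl _) (Iso.refl _) (Iso.refl _) (by simp [← hl1]) (by simp [← hl2])
    (by simp) (by simp)

omit [QuasiSeparatedSpace ↥S] in
theorem exists_pb (f : X ⟶ W) (g : Y ⟶ W) : ∃ (P : Sp S) (p : P ⟶ X) (q : P ⟶ Y), IsPullback p q f g :=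
  ⟨_, _, _, IsPullback.of_hasPullback f g⟩

/-- **The induction step.** -/
theorem step (hW : Noe W) (hV : Noe V) {j : U ⟶ W} {φ : V ⟶ W} (hsq : IsElemDistSq j φ) (hφ : IsSeparatedMor φ)
    (hX : IsAlgSpace X) {f : X ⟶ W} (hf : SFT f) {pU : XU ⟶ X} {fU : XU ⟶ U} (sqU : IsPullback pU fU f j)
    (hcU : Comp fU) (hcV : ∀ ⦃Y : Sp S⦄ (h : Y ⟶ V), IsAlgSpace Y → SFT h → Comp h) : Comp f := by
  have hU : IsAlgSpace U := alg_of_open hsq.1 hW.alg
  have hXU : IsAlgSpace XU := K613.Chart.isAlgSpace_of_isPullback hW.alg.diag hX hU sqU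
  obtain ⟨A, iU, gU, hA, hiU, hgU, hfU⟩ := hcU
  obtain ⟨P, p, q, hP⟩ := exists_pb j φ
  have hq : RepWith @IsOpenImmersion q := repWith_of_isPullback hP hsq.1
  have hPa : IsAlgSpace P := alg_of_open hq hV.alg
  obtain ⟨XV, pV, fV, sqV⟩ := exists_pb f φ
  have hXV : IsAlgSpace XV := K613.Chart.isAlgSpace_of_isPullback hW.alg.diag hX hV.alg sqV
  have hfV : SFT fV := SFT.bc hX hW.alg hV.alg sqV hf
  obtain ⟨XP, a, o, sqXP⟩ := exists_pb pU pV
  have hc₀ : (a ≫ fU) ≫ j = (o ≫ fV) ≫ φ := by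
    rw [Category.assoc, ← sqU.w, ← Category.assoc, sqXP.w, Category.assoc, sqV.w, Category.assoc]
  obtain ⟨c₀, hc1, hc2⟩ : ∃ c₀ : XP ⟶ P, c₀ ≫ p = a ≫ fU ∧ c₀ ≫ q = o ≫ fV :=
    ⟨hP.lift _ _ hc₀, hP.lift_fst _ _ _, hP.lift_snd _ _ _⟩
  have sqo : IsPullback o c₀ fV q := by
    refine (IsPullback.of_right (h₁₁ := c₀) (h₁₂ := p) (v₁₁ := o) (v₁₂ := q) (v₁₃ := j) (h₂₁ := fV) (h₂₂ := φ)
      ?_ hc2 hP).flip
    rw [hc1, ← sqV.w]
    exact sqXP.paste_horiz sqU.flip
  have sqa : IsPullback a c₀ fU p := by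
    refine (IsPullback.of_right (h₁₁ := c₀) (h₁₂ := q) (v₁₁ := a) (v₁₂ := p) (v₁₃ := φ) (h₂₁ := fU) (h₂₂ := j)
      ?_ hc1 hP.flip).flip
    rw [hc2, ← sqU.w]
    exact sqXP.flip.paste_horiz sqV.flip
  obtain ⟨AP, cA, aP, sqAP⟩ := exists_pb gU p
  have hAP : IsAlgSpace AP := K613.Chart.isAlgSpace_of_isPullback hU.diag hA hPa sqAP
  have haP : IsProperMor aP := K597.Proper.isProperMor_of_isPullback hA hU hPa sqAP hgU
  have wm : (a ≫ iU) ≫ gU = c₀ ≫ p := by rw [Category.assoc, hfU, hc1]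
  obtain ⟨m, hm1, hm2⟩ : ∃ m : XP ⟶ AP, m ≫ cA = a ≫ iU ∧ m ≫ aP = c₀ :=
    ⟨sqAP.lift _ _ wm, sqAP.lift_fst _ _ _, sqAP.lift_snd _ _ _⟩
  have sqm : IsPullback a m iU cA := by
    refine IsPullback.of_bot (v₂₁ := aP) (v₂₂ := gU) (h₃₁ := p) ?_ hm1.symm sqAP
    rw [hm2, hfU]
    exact sqa
  have hm : RepWith @IsOpenImmersion m := repWith_of_isPullback sqm hiU
  obtain ⟨B, jX, jN, b, hB, hjX, hjN, hb, hjb, sqB, hmo⟩ :=
    exists_bplus hV hq hXV hfV hAP (sft_of_proper haP) sqo hm hm2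
  obtain ⟨B', k, b', hB', hk, hb', hkb, sqB'⟩ := exists_bbar hV hq hB hb (hcV b hB hb) haP sqB
  have hpe : IsEtaleMor p := K642.Pb.isEtaleMor_of_isPullback hV.alg hU.diag hP.flip hsq.2.1
  have hps : IsSeparatedMor p := sep_bc hP.flip hφ
  have hce : IsEtaleMor cA := K642.Pb.isEtaleMor_of_isPullback hPa hA.diag sqAP.flip hpe
  have hcs : IsSeparatedMor cA := sep_bc sqAP.flip hps
  obtain ⟨T, t, α, β, hT, sqα, sqβ, sqαβ, hed, hpo⟩ :=
    NagGlue.exists_glue hA hB' hAP hV.alg hsq hP sqAP sqB' hcs hce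
  have ht : IsProperMor t := NagLoc.of_cover₂ (Groth.Agent.S10536.result S) hW.alg hU hV.alg hT
    (NagLoc.isEtaleMor_of_open hsq.1) hsq.2.1 (NagLoc.surj_points hsq) sqα sqβ hgU hb'
  have hpoX := isPushout_bc hV.alg hsq sqU sqV sqXP
  have wx : a ≫ iU ≫ α = o ≫ jX ≫ k ≫ β := by
    rw [← Category.assoc, ← hm1, Category.assoc, ← sqαβ.w, ← Category.assoc o, ← hmo]
    simp only [Category.assoc]
  obtain ⟨x, hx1, hx2⟩ : ∃ x : X ⟶ T, pU ≫ x = iU ≫ α ∧ pV ≫ x = jX ≫ k ≫ β :=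
    ⟨hpoX.desc _ _ wx, hpoX.inl_desc _ _ _, hpoX.inr_desc _ _ _⟩
  have hxt : x ≫ t = f := by
    apply hpoX.hom_ext
    · rw [← Category.assoc, hx1, Category.assoc, sqα.w, ← Category.assoc, hfU, sqU.w]
    · rw [← Category.assoc, hx2, Category.assoc, Category.assoc, sqβ.w, ← Category.assoc k, hkb, ← Category.assoc,
        hjb, sqV.w]
  have sq1 : IsPullback pU iU x α := by
    refine IsPullback.of_bot (v₂₁ := gU) (v₂₂ := t) (h₃₁ := j) ?_ hx1 sqα
    rw [hxt, hfU]
    exact sqU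
  have sq2 : IsPullback pV (jX ≫ k) x β := by
    refine IsPullback.of_bot (v₂₁ := b') (v₂₂ := t) (h₃₁ := φ) ?_ (by rw [hx2, Category.assoc]) sqβ
    rw [hxt, Category.assoc, hkb, hjb]
    exact sqV
  have hx : RepWith @IsOpenImmersion x := NagLoc.of_cover₂ (Groth.Agent.S10531.result S) hT hA hB' hX
    (NagLoc.isEtaleMor_of_open hed.1) hed.2.1 (NagLoc.surj_points hed) sq1 sq2 hiU (open_comp hjX hk)
  exact ⟨T, x, t, hT, hx, ht, hxt⟩

end

end K614.NagStep
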