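import Groth.Prelude.Def_AlgSpMor5
/-!
# Push-down of points with values in valuation rings, scheme level

`A → A'` a local extension of valuation rings, `K → K'` the fraction fields.

* `K614.Push.mem_range`: an element of `K` whose image in `K'` comes from `A'` comes from `A`;
* `K614.Push.exists_push`: maps `Spec K ⟶ U`, `Spec A' ⟶ U` to a scheme which agree on `Spec K'` come from a unique
  map `Spec A ⟶ U`;
* `K614.Push.eq_of_agree`: two maps `Spec A ⟶ U` which agree on `Spec K` and `Spec A'` are equal;
* `K614.Push.exists_push_over`: the same over a base scheme `S`, for a dominating extension of a valuative square.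
-/

universe u

open CategoryTheory CategoryTheory.Limits AlgebraicGeometry Opposite AlgSp IsLocalRing

noncomputable section

namespace K614.Push

section Rings

variable {A K A' K' : Type u} [CommRing A] [IsDomain A] [ValuationRing A] [Field K] [Algebra A K] [IsFractionRing A K]
  [CommRing A'] [Field K'] [Algebra A' K'] [IsFractionRing A' K']
  (φ : A →+* A') (ψ : K →+* K')

include φ in
theorem mem_range (hc : (algebraMap A' K').comp φ = ψ.comp (algebraMap A K)) [IsLocalHom φ] (x : K)
    (hx : ψ x ∈ (algebraMap A' K').range) : x ∈ (algebraMap A K).range := by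
  rcases ValuationRing.isInteger_or_isInteger A x with h | h
  · obtain ⟨a, ha⟩ := h; exact ⟨a, ha⟩
  · obtain ⟨a, ha⟩ := h
    obtain ⟨b, hb⟩ := hx
    by_cases hx0 : x = 0
    · exact ⟨0, by rw [map_zero, hx0]⟩
    have h1 : algebraMap A' K' (φ a * b) = 1 := by
      rw [map_mul, hb, ← RingHom.comp_apply, hc, RingHom.comp_apply, ha, map_inv₀,
        inv_mul_cancel₀ ((map_ne_zero ψ).2 hx0)]
    have h2 : φ a * b = 1 := IsFractionRing.injective A' K' (by rw [h1, map_one])
    have h3 : IsUnit (φ a) := IsUnit.of_mul_eq_one _ h2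
    have h4 : IsUnit a := isUnit_of_map_unit φ a h3
    obtain ⟨c, hc⟩ := h4.exists_right_inv
    refine ⟨c, ?_⟩
    have h5 : x⁻¹ * algebraMap A K c = 1 := by rw [← ha, ← map_mul, hc, map_one]
    have h6 : x * (x⁻¹ * algebraMap A K c) = x := by rw [h5, mul_one]
    rwa [mul_inv_cancel_left₀ hx0] at h6

end Rings

section Lift

variable {A K A' K' : Type u} [CommRing A] [IsDomain A] [ValuationRing A] [Field K] [Algebra A K] [IsFractionRing A K]
  [CommRing A'] [IsDomain A'] [ValuationRing A'] [Field K'] [Algebra A' K'] [IsFractionRing A' K']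
  (φ : A →+* A') (ψ : K →+* K')

/-- A ring map to the target of an injective ring map whose values lie in the range lifts. -/
theorem exists_lift_of_range {R B C : Type*} [CommRing R] [CommRing B] [CommRing C] (i : B →+* C)
    (hi : Function.Injective i) (θ : R →+* C) (h : ∀ r, θ r ∈ i.range) : ∃ θ' : R →+* B, i.comp θ' = θ := by
  let e : B ≃+* i.range := RingEquiv.ofBijective i.rangeRestrict
    ⟨fun x y hxy => hi (congrArg Subtype.val hxy), i.rangeRestrict_surjective⟩
  refine ⟨e.symm.toRingHom.comp (θ.codRestrict i.range h), ?_⟩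
  ext r
  have h1 : e (e.symm (θ.codRestrict i.range h r)) = θ.codRestrict i.range h r := e.apply_symm_apply _
  exact congrArg Subtype.val h1

theorem exists_push (hc : (algebraMap A' K').comp φ = ψ.comp (algebraMap A K)) [IsLocalHom φ] {U : Scheme.{u}}
    (uK : Spec (CommRingCat.of K) ⟶ U) (uA' : Spec (CommRingCat.of A') ⟶ U)
    (h : Spec.map (CommRingCat.ofHom (algebraMap A' K')) ≫ uA' = Spec.map (CommRingCat.ofHom ψ) ≫ uK) :
    ∃ v : Spec (CommRingCat.of A) ⟶ U, Spec.map (CommRingCat.ofHom (algebraMap A K)) ≫ v = uK ∧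
      Spec.map (CommRingCat.ofHom φ) ≫ v = uA' := by
  let x : U := uA' (closedPoint A')
  have hs : uK (closedPoint K) ⤳ x := by
    have h2 : (Spec.map (CommRingCat.ofHom (algebraMap A' K')) ≫ uA') (closedPoint K') =
        (Spec.map (CommRingCat.ofHom ψ) ≫ uK) (closedPoint K') := by rw [h]
    have h1 : uK (closedPoint K) = uA' (Spec.map (CommRingCat.ofHom (algebraMap A' K')) (closedPoint K')) :=
      (congrArg uK (Subsingleton.elim _ _)).trans h2.symm
    rw [h1]
    exact (specializes_closedPoint _).map uA'.continuous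
  let θ : U.presheaf.stalk x ⟶ CommRingCat.of K := U.presheaf.stalkSpecializes hs ≫ Scheme.stalkClosedPointTo uK
  let θ' : U.presheaf.stalk x ⟶ CommRingCat.of A' := Scheme.stalkClosedPointTo uA'
  have hθ : Spec.map θ ≫ U.fromSpecStalk x = uK := by
    rw [Spec.map_comp, Category.assoc, Scheme.SpecMap_stalkSpecializes_fromSpecStalk,
      Scheme.Spec_stalkClosedPointTo_fromSpecStalk]
  have hθ' : Spec.map θ' ≫ U.fromSpecStalk x = uA' := Scheme.Spec_stalkClosedPointTo_fromSpecStalk _
  have hcomp : θ ≫ CommRingCat.ofHom ψ = θ' ≫ CommRingCat.ofHom (algebraMap A' K') := by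
    apply Spec.map_injective
    rw [Spec.map_comp (f := θ), Spec.map_comp (f := θ'), ← cancel_mono (U.fromSpecStalk x), Category.assoc,
      Category.assoc, hθ, hθ', h]
  have hcomp' : ∀ r, ψ (θ.hom r) = algebraMap A' K' (θ'.hom r) := fun r =>
    congrArg (fun k => k.hom r) hcomp
  obtain ⟨θ'', hθ''⟩ := exists_lift_of_range (algebraMap A K) (IsFractionRing.injective A K) θ.hom
    (fun r => mem_range φ ψ hc _ ⟨_, (hcomp' r).symm⟩)
  refine ⟨Spec.map (CommRingCat.ofHom θ'') ≫ U.fromSpecStalk x, ?_, ?_⟩
  · rw [← Category.assoc, ← Spec.map_comp, ← CommRingCat.ofHom_comp, hθ'']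
    exact hθ
  · rw [← Category.assoc, ← Spec.map_comp, ← CommRingCat.ofHom_comp]
    have : φ.comp θ'' = θ'.hom := by
      ext r
      apply IsFractionRing.injective A' K'
      have h1 : algebraMap A' K' (φ (θ'' r)) = ψ (algebraMap A K (θ'' r)) := RingHom.congr_fun hc _
      have h2 : algebraMap A K (θ'' r) = θ.hom r := RingHom.congr_fun hθ'' r
      rw [RingHom.comp_apply, h1, h2, hcomp']
    rw [this]
    exact hθ'

omit [IsDomain A] [ValuationRing A] in
/-- Two maps from the spectrum of a local ring to a scheme which agree on an injective extension and at the closed point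
are equal. -/
theorem eq_of_agree' {B : Type u} [CommRing B] [IsLocalRing A] (i : A →+* B) (hi : Function.Injective i) {U : Scheme.{u}}
    (v v' : Spec (CommRingCat.of A) ⟶ U) (h : v (closedPoint A) = v' (closedPoint A))
    (hK : Spec.map (CommRingCat.ofHom i) ≫ v = Spec.map (CommRingCat.ofHom i) ≫ v') : v = v' := by
  let x : U := v (closedPoint A)
  have hs : v' (closedPoint A) ⤳ x := by rw [← h]
  let θ : U.presheaf.stalk x ⟶ CommRingCat.of A := Scheme.stalkClosedPointTo v
  let θ' : U.presheaf.stalk x ⟶ CommRingCat.of A := U.presheaf.stalkSpecializes hs ≫ Scheme.stalkClosedPointTo v'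
  have hθ : Spec.map θ ≫ U.fromSpecStalk x = v := Scheme.Spec_stalkClosedPointTo_fromSpecStalk _
  have hθ' : Spec.map θ' ≫ U.fromSpecStalk x = v' := by
    rw [Spec.map_comp, Category.assoc, Scheme.SpecMap_stalkSpecializes_fromSpecStalk,
      Scheme.Spec_stalkClosedPointTo_fromSpecStalk]
  have hcomp : θ ≫ CommRingCat.ofHom i = θ' ≫ CommRingCat.ofHom i := by
    apply Spec.map_injective
    rw [Spec.map_comp (f := θ), Spec.map_comp (f := θ'), ← cancel_mono (U.fromSpecStalk x), Category.assoc,
      Category.assoc, hθ, hθ', hK]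
  have : θ = θ' := by
    ext r
    apply hi
    exact congrArg (fun k => k.hom r) hcomp
  rw [← hθ, ← hθ', this]

end Lift

section Over

variable {S : Scheme.{u}} {F G : Sp S} {f : F ⟶ G} {sq : ValSq f} (e : sq.DomExt)

theorem closedPoint_φ : Spec.map (CommRingCat.ofHom e.φ) (closedPoint e.A') = closedPoint sq.A := by
  have := e.isLocalHom
  exact comap_closedPoint e.φ

/-- Maps over `S` from `Spec K` and `Spec A'` to a scheme `U` over `S` which agree on `Spec K'` come from a map
`Spec A ⟶ U` over `S`. -/
theorem exists_push_over {U : Over S} (uK : sq.ptK ⟶ U) (uA' : e.ptA' ⟶ U)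
    (h : (Over.homMk (Spec.map (CommRingCat.ofHom (algebraMap e.A' e.K'))) rfl : e.ptK' ⟶ e.ptA').left ≫ uA'.left =
      Spec.map (CommRingCat.ofHom e.ψ) ≫ uK.left) :
    ∃ v : sq.ptA ⟶ U, sq.j ≫ v = uK ∧
      (Over.homMk (Spec.map (CommRingCat.ofHom e.φ)) rfl : e.ptA' ⟶ sq.ptA) ≫ v = uA' := by
  have := e.isLocalHom
  obtain ⟨v, h1, h2⟩ := exists_push e.φ e.ψ e.comm uK.left uA'.left h
  have hv : v ≫ U.hom = sq.str := by
    refine eq_of_agree' (algebraMap sq.A sq.K) (IsFractionRing.injective sq.A sq.K) _ _ ?_ ?_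
    · have h3 : (Spec.map (CommRingCat.ofHom e.φ) ≫ v ≫ U.hom) (closedPoint e.A') =
          (Spec.map (CommRingCat.ofHom e.φ) ≫ sq.str) (closedPoint e.A') := by
        rw [← Category.assoc, h2]
        exact congrArg (fun k : e.ptA'.left ⟶ S => k (closedPoint e.A')) (Over.w uA')
      rw [← closedPoint_φ e]
      exact h3
    · rw [← Category.assoc, h1]
      exact Over.w uK
  refine ⟨Over.homMk v hv, ?_, ?_⟩
  · apply Over.OverMorphism.ext
    exact h1
  · apply Over.OverMorphism.ext
    exact h2

end Over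

end K614.Push
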