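import Groth.Agent.AlgSp.K614.Val
import Groth.Agent.AlgSp.K614.Push
import Groth.Agent.AlgSp.K613.Chart
/-!
# Push-down of points with values in valuation rings: over a base, unbundled, and equality tests in algebraic spaces

* `K614.Push2.exists_push_over'`: unbundled form over a base scheme;
* `K614.Push2.eq_of_agree_space`: two maps from `Spec B` to a sheaf with representable diagonal which agree on `Spec L`
  (`L = Frac B`) and on `Spec A'` (`B → A'` a local extension of valuation rings) are equal.
-/

set_option autoImplicit false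
universe u

open CategoryTheory CategoryTheory.Limits AlgebraicGeometry Opposite AlgSp IsLocalRing

noncomputable section

namespace K614.Push2

variable {S : Scheme.{u}}

section

variable {A K A' K' : Type u} [CommRing A] [IsDomain A] [ValuationRing A] [Field K] [Algebra A K] [IsFractionRing A K]
  [CommRing A'] [IsDomain A'] [ValuationRing A'] [Field K'] [Algebra A' K'] [IsFractionRing A' K']
  (φ : A →+* A') (ψ : K →+* K')

theorem exists_push_over' (hc : (algebraMap A' K').comp φ = ψ.comp (algebraMap A K)) (hloc : IsLocalHom φ)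
    {U : Over S} (str : Spec (CommRingCat.of A) ⟶ S)
    (uK : Spec (CommRingCat.of K) ⟶ U.left) (uA' : Spec (CommRingCat.of A') ⟶ U.left)
    (hK : uK ≫ U.hom = Spec.map (CommRingCat.ofHom (algebraMap A K)) ≫ str)
    (hA' : uA' ≫ U.hom = Spec.map (CommRingCat.ofHom φ) ≫ str)
    (h : Spec.map (CommRingCat.ofHom (algebraMap A' K')) ≫ uA' = Spec.map (CommRingCat.ofHom ψ) ≫ uK) :
    ∃ v : Over.mk str ⟶ U, Spec.map (CommRingCat.ofHom (algebraMap A K)) ≫ v.left = uK ∧
      Spec.map (CommRingCat.ofHom φ) ≫ v.left = uA' := by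
  obtain ⟨v, h1, h2⟩ := K614.Push.exists_push φ ψ hc uK uA' h
  have hcp : Spec.map (CommRingCat.ofHom φ) (closedPoint A') = closedPoint A := comap_closedPoint φ
  have hv : v ≫ U.hom = str := by
    refine K614.Push.eq_of_agree' (algebraMap A K) (IsFractionRing.injective A K) _ _ ?_ ?_
    · have h3 : (Spec.map (CommRingCat.ofHom φ) ≫ v ≫ U.hom) (closedPoint A') =
          (Spec.map (CommRingCat.ofHom φ) ≫ str) (closedPoint A') := by
        rw [← Category.assoc, h2, hA']
      rw [← hcp]
      exact h3
    · rw [← Category.assoc, h1, hK]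
  exact ⟨Over.homMk v hv, h1, h2⟩

/-- Two maps from `Spec A` to a sheaf with representable diagonal which agree on `Spec K` and on `Spec A'` are equal. -/
theorem eq_of_agree_space (hc : (algebraMap A' K').comp φ = ψ.comp (algebraMap A K)) (hloc : IsLocalHom φ)
    {G : Sp S} (hG : Representable (Limits.diag G)) (str : Spec (CommRingCat.of A) ⟶ S)
    (g g' : (yon S).obj (Over.mk str) ⟶ G)
    (hK : (yon S).map (Over.homMk (Spec.map (CommRingCat.ofHom (algebraMap A K))) rfl :
        Over.mk (Spec.map (CommRingCat.ofHom (algebraMap A K)) ≫ str) ⟶ Over.mk str) ≫ g =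
      (yon S).map (Over.homMk (Spec.map (CommRingCat.ofHom (algebraMap A K))) rfl :
        Over.mk (Spec.map (CommRingCat.ofHom (algebraMap A K)) ≫ str) ⟶ Over.mk str) ≫ g')
    (hA' : (yon S).map (Over.homMk (Spec.map (CommRingCat.ofHom φ)) rfl :
        Over.mk (Spec.map (CommRingCat.ofHom φ) ≫ str) ⟶ Over.mk str) ≫ g =
      (yon S).map (Over.homMk (Spec.map (CommRingCat.ofHom φ)) rfl :
        Over.mk (Spec.map (CommRingCat.ofHom φ) ≫ str) ⟶ Over.mk str) ≫ g') : g = g' := by
  obtain ⟨E, e, he⟩ := K613.Chart.representable_diag_iff.1 hG _ g g'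
  obtain ⟨xK, hxK, -⟩ := he.lift _ _ hK
  obtain ⟨xA', hxA', -⟩ := he.lift _ _ hA'
  have hm : Mono e := he.mono
  have hm' : Mono e.left := inferInstance
  have hxK' : xK.left ≫ e.left = Spec.map (CommRingCat.ofHom (algebraMap A K)) := by
    rw [← Over.comp_left, hxK]; rfl
  have hxA'' : xA'.left ≫ e.left = Spec.map (CommRingCat.ofHom φ) := by
    rw [← Over.comp_left, hxA']; rfl
  obtain ⟨v, h1, h2⟩ := K614.Push.exists_push φ ψ hc xK.left xA'.left (by
    rw [← cancel_mono e.left, Category.assoc, Category.assoc]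
    refine (congrArg (Spec.map (CommRingCat.ofHom (algebraMap A' K')) ≫ ·) hxA'').trans ?_
    refine Eq.trans ?_ (congrArg (Spec.map (CommRingCat.ofHom ψ) ≫ ·) hxK').symm
    change Spec.map _ ≫ Spec.map _ = Spec.map _ ≫ Spec.map _
    rw [← Spec.map_comp, ← Spec.map_comp, ← CommRingCat.ofHom_comp, ← CommRingCat.ofHom_comp, hc])
  have hv : v ≫ e.left = 𝟙 (Spec (CommRingCat.of A)) := by
    refine K614.Push.eq_of_agree' (algebraMap A K) (IsFractionRing.injective A K) _ _ ?_ ?_
    · have hcp : Spec.map (CommRingCat.ofHom φ) (closedPoint A') = closedPoint A := comap_closedPoint φ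
      have h3 : (Spec.map (CommRingCat.ofHom φ) ≫ v ≫ e.left) (closedPoint A') =
          (Spec.map (CommRingCat.ofHom φ)) (closedPoint A') := by
        rw [← Category.assoc, h2, hxA'']
      rw [← hcp]
      exact h3
    · rw [← Category.assoc, h1, Category.comp_id]
      exact hxK'
  let v' : Over.mk str ⟶ E := Over.homMk v (by
    rw [← Over.w e, ← Category.assoc, hv]
    exact Category.id_comp _)
  have hv' : v' ≫ e = 𝟙 _ := by
    apply Over.OverMorphism.ext
    exact hv
  have h4 : (yon S).map v' ≫ (yon S).map e = 𝟙 _ := by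
    rw [← Functor.map_comp, hv', CategoryTheory.Functor.map_id]
  calc g = ((yon S).map v' ≫ (yon S).map e) ≫ g := by rw [h4, Category.id_comp]
    _ = ((yon S).map v' ≫ (yon S).map e) ≫ g' := by rw [Category.assoc, he.w, Category.assoc]
    _ = g' := by rw [h4, Category.id_comp]

end

end K614.Push2
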