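import Groth.Agent.AlgSp.K614.Val
import Groth.Agent.AlgSp.K614.Push
/-!
# Existence part of the valuative criterion: strict form, representable morphisms

* `K614.Rep.self`: the trivial dominating extension; `hasLift_self`; `existVC_of_strict`;
* `K614.Rep.hasLift_of_domExt_of_represented`: if the base change of `f` along the bottom arrow is a scheme, a lift after
  a dominating extension comes from a lift;
* `K614.Rep.existVC_iff_strict_of_representable`;
* `K614.Rep.existence_of_existVCStrict`: `ExistVCStrict f` gives Mathlib's `ValuativeCriterion.Existence` for every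
  represented base change.
-/

universe u

open CategoryTheory CategoryTheory.Limits AlgebraicGeometry Opposite AlgSp IsLocalRing

noncomputable section

namespace K614.Rep

open K614.Val

variable {S : Scheme.{u}}

section Self

variable {F G : Sp S} {f : F ⟶ G} (sq : ValSq f)

/-- The trivial dominating extension. -/
@[reducible]
def self : sq.DomExt where
  A' := sq.A
  K' := sq.K
  φ := RingHom.id _
  ψ := RingHom.id _
  comm := by rw [RingHom.comp_id, RingHom.id_comp]
  isLocalHom := ⟨fun _ h => h⟩

theorem hasLift_self (h : sq.HasLift) : (self sq).HasLift := by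
  obtain ⟨l, h1, h2⟩ := h
  rw [hasLift_iff]
  have e1 : jK (self sq) ≫ pA (self sq) = pK (self sq) ≫ sq.j := (pK_j _).symm
  refine ⟨(yon S).map (pA (self sq)) ≫ l, ?_, ?_⟩
  · have h1' : (yon S).map sq.j ≫ l = sq.top := h1
    rw [← Functor.map_comp_assoc, e1, Functor.map_comp_assoc, h1']
  · have h2' : l ≫ f = sq.bot := h2
    rw [Category.assoc, h2']

end Self

variable {F G : Sp S} {f : F ⟶ G}

theorem existVC_of_strict (h : ExistVCStrict f) : ExistVC f :=
  fun sq => ⟨self sq, hasLift_self sq (h sq)⟩

/-- If the base change of `f` along the bottom arrow is a scheme, a lift after a dominating extension comes from a lift. -/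
theorem hasLift_of_domExt_of_represented (sq : ValSq f) (e : sq.DomExt) (he : e.HasLift) {V : Over S} {snd : V ⟶ sq.ptA}
    {fst : (yon S).obj V ⟶ F} (P : IsPullback fst ((yon S).map snd) f sq.bot) : sq.HasLift := by
  obtain ⟨l, h1, h2⟩ := (hasLift_iff e).1 he
  obtain ⟨uK, huK⟩ := (yon S).map_surjective (P.lift sq.top ((yon S).map sq.j) sq.comm)
  obtain ⟨uA', huA'⟩ := (yon S).map_surjective (P.lift l ((yon S).map (pA e)) h2)
  have hK1 : (yon S).map uK ≫ fst = sq.top := by rw [huK, P.lift_fst]
  have hK2 : uK ≫ snd = sq.j := (yon S).map_injective (by rw [Functor.map_comp, huK, P.lift_snd])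
  have hA1 : (yon S).map uA' ≫ fst = l := by rw [huA', P.lift_fst]
  have hA2 : uA' ≫ snd = pA e := (yon S).map_injective (by rw [Functor.map_comp, huA', P.lift_snd])
  have hag : jK e ≫ uA' = pK e ≫ uK := by
    apply (yon S).map_injective
    apply P.hom_ext
    · rw [Functor.map_comp, Functor.map_comp, Category.assoc, Category.assoc, hA1, hK1, h1]
    · rw [← Functor.map_comp, ← Functor.map_comp, Category.assoc, Category.assoc, hA2, hK2, pK_j]
  obtain ⟨v, hv1, hv2⟩ := K614.Push.exists_push_over e uK uA' (congrArg (·.left) hag)
  rw [hasLift_sq_iff]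
  refine ⟨(yon S).map v ≫ fst, ?_, ?_⟩
  · rw [← Functor.map_comp_assoc, hv1, hK1]
  · rw [Category.assoc, P.w, ← Functor.map_comp_assoc]
    have h3 : v ≫ snd = 𝟙 _ := by
      apply Over.OverMorphism.ext
      refine K614.Push.eq_of_agree' (algebraMap sq.A sq.K) (IsFractionRing.injective sq.A sq.K)
        (v ≫ snd).left (𝟙 (Spec (CommRingCat.of sq.A))) ?_ ?_
      · have h4 : (pA e ≫ (v ≫ snd)).left (closedPoint e.A') = (pA e).left (closedPoint e.A') := by
          rw [← Category.assoc, hv2, hA2]
        have h5 := K614.Push.closedPoint_φ e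
        rw [← h5]
        exact h4
      · have h4 : (sq.j ≫ (v ≫ snd)) = sq.j := by rw [← Category.assoc, hv1, hK2]
        have h5 : (sq.j ≫ (v ≫ snd)).left = sq.j.left := by rw [h4]
        rw [Category.comp_id]
        exact h5
    rw [h3, CategoryTheory.Functor.map_id, Category.id_comp]

theorem existVC_iff_strict_of_representable (hf : Representable f) : ExistVC f ↔ ExistVCStrict f := by
  refine ⟨fun h sq => ?_, existVC_of_strict⟩
  obtain ⟨e, he⟩ := h sq
  exact hasLift_of_domExt_of_represented sq e he (hf.isPullback sq.bot)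

end K614.Rep
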