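import Groth.Agent.AlgSp.K604.SepDvr
/-!
# Valuative criterion of separatedness for algebraic spaces (uniqueness part gives separated)
-/

set_option autoImplicit false
universe u

open CategoryTheory CategoryTheory.Limits AlgebraicGeometry Opposite

namespace K614.Sep

open AlgSp K613.Basic K613.Cover K613.Chart K613.Diag

variable {S : Scheme.{u}} {X Y : Sp S}

/-- Under the uniqueness part of the valuative criterion, the locus where two maps from a scheme to `X` over `Y` agree is a
closed subscheme, if it is quasi-compact and locally of finite type. -/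
theorem isClosedImmersion_isEq {f : X ⟶ Y} (H : UniqVC f) {T : Over S}
    {a b : (yon S).obj T ⟶ X} (hab : a ≫ f = b ≫ f) {E : Over S} {e : E ⟶ T} (he : IsEq a b e)
    [LocallyOfFiniteType e.left] [QuasiCompact e.left] : IsClosedImmersion e.left := by
  have hm : Mono e := he.mono
  have hm' : Mono e.left := inferInstance
  rw [IsClosedImmersion.iff_isProper_and_mono]
  refine ⟨?_, hm'⟩
  have h1 : UniversallyClosed e.left := by
    refine UniversallyClosed.of_valuativeCriterion e.left ?_
    intro V
    let str : Spec (CommRingCat.of V.R) ⟶ S := V.i₂ ≫ T.hom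
    let y' : Over.mk str ⟶ T := Over.homMk V.i₂ rfl
    let j : Over.mk (Spec.map (CommRingCat.ofHom (algebraMap V.R V.K)) ≫ str) ⟶ Over.mk str :=
      Over.homMk (Spec.map (CommRingCat.ofHom (algebraMap V.R V.K))) rfl
    have hxy : V.i₁ ≫ e.left = Spec.map (CommRingCat.ofHom (algebraMap V.R V.K)) ≫ V.i₂ := V.commSq.w
    let x' : Over.mk (Spec.map (CommRingCat.ofHom (algebraMap V.R V.K)) ≫ str) ⟶ E :=
      Over.homMk V.i₁ (by
        rw [← Over.w e, reassoc_of% hxy]; rfl)
    have hx' : x' ≫ e = j ≫ y' := by
      ext : 1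
      exact hxy
    have e2 : ((yon S).map j ≫ (yon S).map y') ≫ a = ((yon S).map j ≫ (yon S).map y') ≫ b := by
      have e1 : (yon S).map j ≫ (yon S).map y' = (yon S).map x' ≫ (yon S).map e := by
        rw [← Functor.map_comp, ← Functor.map_comp, hx']
      rw [e1, Category.assoc, Category.assoc, he.w]
    let sq : ValSq f :=
      { A := V.R
        K := V.K
        str := str
        top := ((yon S).map j ≫ (yon S).map y') ≫ a
        bot := (yon S).map y' ≫ a ≫ f
        comm := by simp only [Category.assoc]; rfl }
    have key := H sq ((yon S).map y' ≫ a) ((yon S).map y' ≫ b) ((Category.assoc _ _ _).symm)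
      (Category.assoc _ _ _) ((Category.assoc _ _ _).symm.trans e2.symm)
      ((Category.assoc _ _ _).trans (congrArg ((yon S).map y' ≫ ·) hab.symm))
    obtain ⟨l, hl, -⟩ := he.lift _ y' key
    have hl' : l.left ≫ e.left = V.i₂ := by
      rw [← Over.comp_left, hl]; rfl
    refine ⟨⟨⟨l.left, ?_, hl'⟩⟩⟩
    rw [← cancel_mono e.left, Category.assoc, hl', hxy]
  exact {}

theorem isSeparatedMor_of_uniqVC (hX : IsAlgSpace X) (f : X ⟶ Y) (hqs : IsQuasiSeparatedMor f) (H : UniqVC f) :
    IsSeparatedMor f := by
  refine (repWith_diagonal_iff @IsClosedImmersion f).2 fun T a b hab => ?_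
  obtain ⟨E, e, he⟩ := (representable_diagonal_iff f).1 hqs.1 T a b hab
  have he1 : QuasiCompact e.left := prop_of_isEq hqs hab he
  have he2 : LocallyOfFiniteType e.left := prop_of_isEq (K604.SepDvr.lft_diagonal hX f) hab he
  exact ⟨E, e, he, isClosedImmersion_isEq H hab he⟩

end K614.Sep
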