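import Groth.Agent.AlgSp.K614.Val
import Groth.Agent.AlgSp.K613.Diag
import Groth.Agent.AlgSp.K630.FpqcBasic
import Mathlib.RingTheory.Flat.TorsionFree
import Mathlib.AlgebraicGeometry.Morphisms.Flat
import Mathlib.AlgebraicGeometry.ValuativeCriterion

/-!
# Lifts after a dominating extension descend, for separated morphisms

* `K614.SepLift.flat_of_valuationRing`: a domain containing a valuation ring is flat over it;
* `K614.SepLift.injective_tensor`: `A' ⊗[A] A' → K' ⊗[A] K'` is injective;
* `K614.SepLift.eq_of_injective`: two maps from an affine scheme `T` to `X`, equal over `Y` (`X ⟶ Y` separated), that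
  agree on an affine scheme `T' ⟶ T` injective on global functions, are equal;
* `K614.SepLift.descend`: descent of maps to an fpqc sheaf along a faithfully flat map of affine schemes;
* `K614.SepLift.hasLift_of_domExt`: for `f : X ⟶ Y` separated and `X`, `Y` fpqc sheaves, a valuative square with a lift
  after a dominating extension has a lift.
-/

set_option autoImplicit false
universe u

open CategoryTheory CategoryTheory.Limits AlgebraicGeometry Opposite TensorProduct

namespace K614.SepLift

open AlgSp K613.Basic K613.Chart K614.Val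

section Alg

variable {A A' K K' : Type u} [CommRing A] [IsDomain A] [ValuationRing A] [CommRing A'] [IsDomain A']
  [Field K] [Field K'] [Algebra A K] [IsFractionRing A K] [Algebra A' K'] [IsFractionRing A' K']
  (φ : A →+* A') (ψ : K →+* K') (comm : (algebraMap A' K').comp φ = ψ.comp (algebraMap A K))

include comm in
omit [IsDomain A] [ValuationRing A] [IsDomain A'] [IsFractionRing A' K'] in
theorem injective_of_comm : Function.Injective φ := by
  intro x y hxy
  have h1 : ψ (algebraMap A K x) = ψ (algebraMap A K y) := by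
    have := RingHom.congr_fun comm x
    have h2 := RingHom.congr_fun comm y
    simp only [RingHom.comp_apply] at this h2
    rw [← this, ← h2, hxy]
  exact IsFractionRing.injective A K (ψ.injective h1)

theorem flat_of_injective [Algebra A A'] (h : Function.Injective (algebraMap A A')) : Module.Flat A A' := by
  rw [Module.Flat.flat_iff_torsion_eq_bot_of_isBezout, ← Submodule.isTorsionFree_iff_torsion_eq_bot]
  have : FaithfulSMul A A' := (faithfulSMul_iff_algebraMap_injective A A').2 h
  infer_instance

/-- `A' ⊗[A] A' → K' ⊗[A] K'` is injective. -/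
theorem injective_tensor [Algebra A A'] [Algebra A K'] [IsScalarTower A A' K']
    (h : Function.Injective (algebraMap A A')) :
    Function.Injective (Algebra.TensorProduct.map (IsScalarTower.toAlgHom A A' K')
      (IsScalarTower.toAlgHom A A' K') : A' ⊗[A] A' →ₐ[A] K' ⊗[A] K') := by
  have h1 : Function.Injective (algebraMap A' K') := IsFractionRing.injective A' K'
  have h2 : Function.Injective (algebraMap A K') := by
    rw [IsScalarTower.algebraMap_eq A A' K']
    exact h1.comp h
  have f1 : Module.Flat A A' := flat_of_injective h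
  have f2 : Module.Flat A K' := flat_of_injective h2
  let g : A' →ₗ[A] K' := (IsScalarTower.toAlgHom A A' K').toLinearMap
  have hg : Function.Injective g := h1
  have e : ∀ x : A' ⊗[A] A', Algebra.TensorProduct.map (IsScalarTower.toAlgHom A A' K')
      (IsScalarTower.toAlgHom A A' K') x = LinearMap.lTensor K' g (LinearMap.rTensor A' g x) := by
    intro x
    induction x with
    | zero => simp
    | tmul a b => rfl
    | add a b ha hb => rw [map_add, ha, hb, map_add, map_add]
  intro x y hxy
  rw [e, e] at hxy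
  exact Module.Flat.rTensor_preserves_injective_linearMap (M := A') g hg
    (Module.Flat.lTensor_preserves_injective_linearMap (M := K') g hg hxy)

theorem faithfullyFlat [Algebra A A'] [ValuationRing A'] (h : Function.Injective (algebraMap A A'))
    (hl : IsLocalHom (algebraMap A A')) : Module.FaithfullyFlat A A' := by
  have f1 : Module.Flat A A' := flat_of_injective h
  exact Module.FaithfullyFlat.of_flat_of_isLocalHom

end Alg

variable {S : Scheme.{u}}

/-- Descent of maps to an fpqc sheaf along a flat surjective map of affine schemes. -/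
theorem descend {F : Sp S} (hF : Presheaf.IsSheaf (Scheme.fpqcTopology.over S) F.obj) {T T' : Over S}
    (p : T' ⟶ T) (hT : IsAffine T.left) (hT' : IsAffine T'.left) (hp : Flat p.left) (hp' : Surjective p.left)
    (l : (yon S).obj T' ⟶ F)
    (hl : ∀ (Z : Over S) (g₁ g₂ : Z ⟶ T'), g₁ ≫ p = g₂ ≫ p → (yon S).map g₁ ≫ l = (yon S).map g₂ ≫ l) :
    ∃ m : (yon S).obj T ⟶ F, (yon S).map p ≫ m = l := by
  rw [isSheaf_iff_isSheaf_of_type] at hF
  have hmem : Sieve.generate (Presieve.singleton p) ∈ (Scheme.fpqcTopology.over S) T := by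
    rw [GrothendieckTopology.mem_over_iff]
    have h1 := K630.ofArrows_mem_fpqcTopology (Z := T.left) (m := 1) (fun _ => T'.left) (fun _ => p.left)
      (fun _ => hT') (fun _ => hp) (fun z => ⟨0, hp'.surj z⟩)
    refine Scheme.fpqcTopology.superset_covering ?_ h1
    rw [Sieve.ofArrows, Sieve.generate_le_iff]
    rintro Y f ⟨j⟩
    rw [Sieve.overEquiv_iff]
    refine ⟨T', Over.homMk (𝟙 _) (by simp), p, Presieve.singleton_self p, ?_⟩
    ext
    simp
  have h2 := (Presieve.isSheafFor_iff_generate _).2 (hF _ hmem)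
  rw [Presieve.isSheafFor_singleton] at h2
  obtain ⟨y, hy, -⟩ := h2 ((J S).uliftYonedaEquiv l) (fun {Z} g₁ g₂ hg => by
    rw [GrothendieckTopology.uliftYonedaEquiv_naturality, GrothendieckTopology.uliftYonedaEquiv_naturality]
    exact congrArg _ (hl Z g₁ g₂ hg))
  refine ⟨(J S).uliftYonedaEquiv.symm y, ?_⟩
  rw [GrothendieckTopology.uliftYonedaEquiv_symm_naturality_left, hy, Equiv.symm_apply_apply]

/-- Two maps from an affine scheme to `X`, equal over `Y` with `X ⟶ Y` separated, which agree on an affine scheme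
`T' ⟶ T` with injective map on global functions are equal. -/
theorem eq_of_injective {X Y : Sp S} {f : X ⟶ Y} (hf : IsSeparatedMor f) {T T' : Over S} (q : T' ⟶ T)
    (hT : IsAffine T.left) (hq : Function.Injective q.left.appTop)
    (a b : (yon S).obj T ⟶ X) (hab : a ≫ f = b ≫ f) (h : (yon S).map q ≫ a = (yon S).map q ≫ b) : a = b := by
  obtain ⟨E, e, he, hcl⟩ := (K613.Diag.repWith_diagonal_iff @IsClosedImmersion f).1 hf T a b hab
  obtain ⟨q', hq', -⟩ := he.lift _ q h
  obtain ⟨hE, hs⟩ := IsClosedImmersion.isAffine_surjective_of_isAffine (f := e.left)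
  have hi : Function.Injective e.left.appTop := by
    have h1 : q.left.appTop = e.left.appTop ≫ q'.left.appTop := by
      rw [← Scheme.Hom.comp_appTop, ← Over.comp_left, hq']
    rw [h1] at hq
    exact Function.Injective.of_comp hq
  have h4 : IsIso e.left.appTop := (ConcreteCategory.isIso_iff_bijective _).mpr ⟨hi, hs⟩
  have hiso : IsIso e.left :=
    (MorphismProperty.arrow_mk_iso_iff (MorphismProperty.isomorphisms Scheme)
      (arrowIsoSpecΓOfIsAffine e.left)).mpr (inferInstanceAs (IsIso (Spec.map (e.left.appTop))))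
  have hiso' : IsIso ((Over.forget S).map e) := hiso
  have : IsIso e := isIso_of_reflects_iso e (Over.forget S)
  rw [← cancel_epi ((yon S).map e)]
  exact he.w

/-- Uniqueness of descended maps. -/
theorem ext_of_flat {F : Sp S} (hF : Presheaf.IsSheaf (Scheme.fpqcTopology.over S) F.obj) {T T' : Over S}
    (p : T' ⟶ T) (hT : IsAffine T.left) (hT' : IsAffine T'.left) (hp : Flat p.left) (hp' : Surjective p.left)
    (a b : (yon S).obj T ⟶ F) (h : (yon S).map p ≫ a = (yon S).map p ≫ b) : a = b := by
  rw [isSheaf_iff_isSheaf_of_type] at hF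
  have hmem : Sieve.generate (Presieve.singleton p) ∈ (Scheme.fpqcTopology.over S) T := by
    rw [GrothendieckTopology.mem_over_iff]
    have h1 := K630.ofArrows_mem_fpqcTopology (Z := T.left) (m := 1) (fun _ => T'.left) (fun _ => p.left)
      (fun _ => hT') (fun _ => hp) (fun z => ⟨0, hp'.surj z⟩)
    refine Scheme.fpqcTopology.superset_covering ?_ h1
    rw [Sieve.ofArrows, Sieve.generate_le_iff]
    rintro Y f ⟨j⟩
    rw [Sieve.overEquiv_iff]
    refine ⟨T', Over.homMk (𝟙 _) (by simp), p, Presieve.singleton_self p, ?_⟩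
    ext
    simp
  have h2 := (Presieve.isSheafFor_iff_generate _).2 (hF _ hmem)
  have h3 := h2.isSeparatedFor
  rw [Presieve.isSeparatedFor_singleton] at h3
  apply (J S).uliftYonedaEquiv.injective
  apply h3
  rw [GrothendieckTopology.uliftYonedaEquiv_naturality, GrothendieckTopology.uliftYonedaEquiv_naturality, h]

/-- A map of schemes over `S` which agrees with the spectrum of a ring map. -/
theorem exists_tensor_lift {A B : Type u} [CommRing A] [CommRing B] [Algebra A B] {Z : Scheme.{u}}
    (g₁ g₂ : Z ⟶ Spec (.of B)) (h : g₁ ≫ Spec.map (CommRingCat.ofHom (algebraMap A B)) =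
      g₂ ≫ Spec.map (CommRingCat.ofHom (algebraMap A B))) :
    ∃ g : Z ⟶ Spec (.of (B ⊗[A] B)),
      g ≫ Spec.map (CommRingCat.ofHom (Algebra.TensorProduct.includeLeftRingHom : B →+* B ⊗[A] B)) = g₁ ∧
      g ≫ Spec.map (CommRingCat.ofHom (Algebra.TensorProduct.includeRight : B →ₐ[A] B ⊗[A] B).toRingHom) = g₂ := by
  have sq := isPullback_SpecMap_of_isPushout _ _ _ _ (CommRingCat.isPushout_tensorProduct A B B)
  exact ⟨sq.lift g₁ g₂ h, sq.lift_fst _ _ _, sq.lift_snd _ _ _⟩

/-- the map on global functions of the spectrum of an injective ring map is injective -/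
theorem injective_appTop {A B : Type u} [CommRing A] [CommRing B] (g : A →+* B) (h : Function.Injective g) :
    Function.Injective (Spec.map (CommRingCat.ofHom g)).appTop := by
  let e := arrowIsoΓSpecOfIsAffine (CommRingCat.ofHom g)
  let P : MorphismProperty CommRingCat := RingHom.toMorphismProperty <| fun f ↦ Function.Injective f
  have : (RingHom.toMorphismProperty <| fun f ↦ Function.Injective f).RespectsIso :=
    RingHom.toMorphismProperty_respectsIso_iff.mp RingHom.injective_respectsIso
  change P _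
  rw [← MorphismProperty.arrow_mk_iso_iff (P := P) e]
  exact h

theorem hasLift_of_domExt {X Y : Sp S} (hX : Presheaf.IsSheaf (Scheme.fpqcTopology.over S) X.obj)
    (hY : Presheaf.IsSheaf (Scheme.fpqcTopology.over S) Y.obj) {f : X ⟶ Y} (hf : IsSeparatedMor f)
    (sq : ValSq f) (e : sq.DomExt) (he : e.HasLift) : sq.HasLift := by
  obtain ⟨l, hl1, hl2⟩ := (hasLift_iff e).1 he
  have hφ : Function.Injective e.φ := injective_of_comm e.φ e.ψ e.comm
  let a1 : Algebra sq.A e.A' := e.φ.toAlgebra
  let a2 : Algebra sq.A e.K' := ((algebraMap e.A' e.K').comp e.φ).toAlgebra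
  have a3 : IsScalarTower sq.A e.A' e.K' := IsScalarTower.of_algebraMap_eq fun _ => rfl
  have hφ' : Function.Injective (algebraMap sq.A e.A') := hφ
  have hff : Module.FaithfullyFlat sq.A e.A' := faithfullyFlat hφ' e.isLocalHom
  have hpf : Flat (pA e).left := by
    change Flat (Spec.map (CommRingCat.ofHom e.φ))
    rw [Flat.SpecMap_iff]
    exact hff.toFlat
  have hps : Surjective (pA e).left := by
    constructor
    change Function.Surjective (PrimeSpectrum.comap e.φ)
    exact PrimeSpectrum.comap_surjective_of_faithfullyFlat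
  -- the two maps from `Spec (A' ⊗ A')` agree
  let B : Type u := e.A' ⊗[sq.A] e.A'
  let C : Type u := e.K' ⊗[sq.A] e.K'
  let bl : e.A' →+* B := Algebra.TensorProduct.includeLeftRingHom
  let br : e.A' →+* B := (Algebra.TensorProduct.includeRight : e.A' →ₐ[sq.A] B).toRingHom
  let cl : e.K' →+* C := Algebra.TensorProduct.includeLeftRingHom
  let cr : e.K' →+* C := (Algebra.TensorProduct.includeRight : e.K' →ₐ[sq.A] C).toRingHom
  let θ : B →+* C := (Algebra.TensorProduct.map (IsScalarTower.toAlgHom sq.A e.A' e.K')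
      (IsScalarTower.toAlgHom sq.A e.A' e.K') : B →ₐ[sq.A] C).toRingHom
  have hθ : Function.Injective θ := injective_tensor hφ'
  have hb : bl.comp e.φ = br.comp e.φ := by
    ext x
    change (e.φ x) ⊗ₜ[sq.A] (1 : e.A') = (1 : e.A') ⊗ₜ[sq.A] (e.φ x)
    have : e.φ x = x • (1 : e.A') := by rw [Algebra.smul_def, mul_one]; rfl
    rw [this, TensorProduct.smul_tmul]
  have hc : cl.comp e.ψ = cr.comp e.ψ := by
    refine IsLocalization.ringHom_ext (nonZeroDivisors sq.A) ?_
    rw [RingHom.comp_assoc, RingHom.comp_assoc, ← e.comm]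
    ext x
    change (algebraMap e.A' e.K' (e.φ x)) ⊗ₜ[sq.A] (1 : e.K') =
      (1 : e.K') ⊗ₜ[sq.A] (algebraMap e.A' e.K' (e.φ x))
    have : algebraMap e.A' e.K' (e.φ x) = x • (1 : e.K') := by rw [Algebra.smul_def, mul_one]; rfl
    rw [this, TensorProduct.smul_tmul]
  have hθl : θ.comp bl = cl.comp (algebraMap e.A' e.K') := by
    ext x
    change (algebraMap e.A' e.K' x) ⊗ₜ[sq.A] (algebraMap e.A' e.K' 1) = (algebraMap e.A' e.K' x) ⊗ₜ[sq.A] (1 : e.K')
    rw [map_one]
  have hθr : θ.comp br = cr.comp (algebraMap e.A' e.K') := by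
    ext x
    change (algebraMap e.A' e.K' 1) ⊗ₜ[sq.A] (algebraMap e.A' e.K' x) = (1 : e.K') ⊗ₜ[sq.A] (algebraMap e.A' e.K' x)
    rw [map_one]
  let TB : Over S := Over.mk (Spec.map (CommRingCat.ofHom bl) ≫ e.ptA'.hom)
  let TC : Over S := Over.mk (Spec.map (CommRingCat.ofHom cl) ≫ e.ptK'.hom)
  let i₁ : TB ⟶ e.ptA' := Over.homMk (Spec.map (CommRingCat.ofHom bl)) rfl
  let i₂ : TB ⟶ e.ptA' := Over.homMk (Spec.map (CommRingCat.ofHom br)) (by
    change Spec.map (CommRingCat.ofHom br) ≫ Spec.map (CommRingCat.ofHom e.φ) ≫ sq.str =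
      Spec.map (CommRingCat.ofHom bl) ≫ Spec.map (CommRingCat.ofHom e.φ) ≫ sq.str
    rw [← Spec.map_comp_assoc, ← Spec.map_comp_assoc, ← CommRingCat.ofHom_comp, ← CommRingCat.ofHom_comp, hb])
  let k₁ : TC ⟶ e.ptK' := Over.homMk (Spec.map (CommRingCat.ofHom cl)) rfl
  have hk : Spec.map (CommRingCat.ofHom cr) ≫ Spec.map (CommRingCat.ofHom e.ψ) =
      Spec.map (CommRingCat.ofHom cl) ≫ Spec.map (CommRingCat.ofHom e.ψ) := by
    rw [← Spec.map_comp, ← Spec.map_comp, ← CommRingCat.ofHom_comp, ← CommRingCat.ofHom_comp, hc]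
  let k₂ : TC ⟶ e.ptK' := Over.homMk (Spec.map (CommRingCat.ofHom cr)) (by
    change Spec.map (CommRingCat.ofHom cr) ≫ e.ptK'.hom = Spec.map (CommRingCat.ofHom cl) ≫ e.ptK'.hom
    rw [← w_pK e, ← Category.assoc, ← Category.assoc, hk])
  have hk' : k₁ ≫ pK e = k₂ ≫ pK e := Over.OverMorphism.ext hk.symm
  have hi' : i₁ ≫ pA e = i₂ ≫ pA e := by
    apply Over.OverMorphism.ext
    change Spec.map (CommRingCat.ofHom bl) ≫ Spec.map (CommRingCat.ofHom e.φ) =
      Spec.map (CommRingCat.ofHom br) ≫ Spec.map (CommRingCat.ofHom e.φ)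
    rw [← Spec.map_comp, ← Spec.map_comp, ← CommRingCat.ofHom_comp, ← CommRingCat.ofHom_comp, hb]
  have hq1 : Spec.map (CommRingCat.ofHom θ) ≫ Spec.map (CommRingCat.ofHom bl) =
      Spec.map (CommRingCat.ofHom cl) ≫ Spec.map (CommRingCat.ofHom (algebraMap e.A' e.K')) := by
    rw [← Spec.map_comp, ← Spec.map_comp, ← CommRingCat.ofHom_comp, ← CommRingCat.ofHom_comp, hθl]
  have hq2 : Spec.map (CommRingCat.ofHom θ) ≫ Spec.map (CommRingCat.ofHom br) =
      Spec.map (CommRingCat.ofHom cr) ≫ Spec.map (CommRingCat.ofHom (algebraMap e.A' e.K')) := by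
    rw [← Spec.map_comp, ← Spec.map_comp, ← CommRingCat.ofHom_comp, ← CommRingCat.ofHom_comp, hθr]
  let q : TC ⟶ TB := Over.homMk (Spec.map (CommRingCat.ofHom θ)) (by
    change Spec.map (CommRingCat.ofHom θ) ≫ Spec.map (CommRingCat.ofHom bl) ≫ e.ptA'.hom =
      Spec.map (CommRingCat.ofHom cl) ≫ Spec.map (CommRingCat.ofHom (algebraMap e.A' e.K')) ≫ e.ptA'.hom
    rw [← Category.assoc, hq1, Category.assoc])
  have hq1' : q ≫ i₁ = k₁ ≫ jK e := Over.OverMorphism.ext hq1
  have hq2' : q ≫ i₂ = k₂ ≫ jK e := Over.OverMorphism.ext hq2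
  have key : (yon S).map i₁ ≫ l = (yon S).map i₂ ≫ l := by
    refine eq_of_injective hf q (inferInstanceAs (IsAffine (Spec (.of B)))) (injective_appTop θ hθ) _ _ ?_ ?_
    · rw [Category.assoc, Category.assoc, hl2, ← Category.assoc, ← Category.assoc, ← Functor.map_comp,
        ← Functor.map_comp, hi']
    · rw [← Category.assoc, ← Category.assoc, ← Functor.map_comp, ← Functor.map_comp, hq1', hq2',
        Functor.map_comp, Functor.map_comp, Category.assoc, Category.assoc, hl1, ← Category.assoc,
        ← Category.assoc, ← Functor.map_comp, ← Functor.map_comp, hk']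
  obtain ⟨m, hm⟩ := descend hX (pA e) (inferInstanceAs (IsAffine (Spec (.of sq.A))))
    (inferInstanceAs (IsAffine (Spec (.of e.A')))) hpf hps l (fun Z g₁ g₂ hg => by
      have hg' : g₁.left ≫ Spec.map (CommRingCat.ofHom (algebraMap sq.A e.A')) =
          g₂.left ≫ Spec.map (CommRingCat.ofHom (algebraMap sq.A e.A')) := congrArg CommaMorphism.left hg
      obtain ⟨g, hg1, hg2⟩ := exists_tensor_lift g₁.left g₂.left hg'
      let gg : Z ⟶ TB := Over.homMk g (by
        change g ≫ Spec.map (CommRingCat.ofHom bl) ≫ e.ptA'.hom = _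
        rw [← Category.assoc]
        exact (congrArg (· ≫ e.ptA'.hom) hg1).trans (Over.w g₁))
      have e1 : gg ≫ i₁ = g₁ := Over.OverMorphism.ext hg1
      have e2 : gg ≫ i₂ = g₂ := Over.OverMorphism.ext hg2
      rw [← e1, ← e2, Functor.map_comp, Functor.map_comp, Category.assoc, Category.assoc, key])
  have hmf : m ≫ f = sq.bot := by
    refine ext_of_flat hY (pA e) (inferInstanceAs (IsAffine (Spec (.of sq.A))))
      (inferInstanceAs (IsAffine (Spec (.of e.A')))) hpf hps _ _ ?_
    rw [← Category.assoc, hm, hl2]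
  refine (hasLift_sq_iff (sq := sq)).2 ⟨m, ?_, hmf⟩
  refine eq_of_injective hf (pK e) (inferInstanceAs (IsAffine (Spec (.of sq.K))))
    (injective_appTop e.ψ e.ψ.injective) _ _ ?_ ?_
  · rw [Category.assoc, hmf]
    exact sq.comm.symm
  · rw [← Category.assoc, ← Functor.map_comp, pK_j, Functor.map_comp, Category.assoc, hm, hl1]

end K614.SepLift
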