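import Groth.Agent.AlgSp.K614.Chart
import Groth.Agent.AlgSp.K596.Univ
/-!
# Quasi-compact morphisms with the existence part of the valuative criterion are universally closed
-/

set_option autoImplicit false
universe u

open CategoryTheory CategoryTheory.Limits AlgebraicGeometry Opposite AlgSp IsLocalRing

namespace K614.UnivClosed

open K614.Val

variable {S : Scheme.{u}} {F G : Sp S} {f : F ⟶ G}

theorem isClosed_image {U T : Scheme.{u}} (k : U ⟶ T) [CompactSpace ↥U] [IsAffine T] (D : Set ↥U) (hD : IsClosed D)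
    (h : StableUnderSpecialization (k '' D)) : IsClosed (k '' D) := by
  wlog hT : ∃ R, T = Spec R
  · have := this (k ≫ T.isoSpec.hom) D hD (by
      have h1 : (k ≫ T.isoSpec.hom) '' D = T.isoSpec.hom '' (k '' D) := by
        rw [Scheme.Hom.comp_base, TopCat.coe_comp, Set.image_comp]
      rw [h1]
      have h2 : IsClosedMap T.isoSpec.hom := (TopCat.homeoOfIso (Scheme.forgetToTop.mapIso T.isoSpec)).isClosedMap
      exact h.image h2.specializingMap) ⟨_, rfl⟩
    have h1 : (k ≫ T.isoSpec.hom) '' D = T.isoSpec.hom '' (k '' D) := by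
      rw [Scheme.Hom.comp_base, TopCat.coe_comp, Set.image_comp]
    rw [h1] at this
    have h2 := this.preimage T.isoSpec.hom.continuous
    have hinj : Function.Injective T.isoSpec.hom :=
      (TopCat.homeoOfIso (Scheme.forgetToTop.mapIso T.isoSpec)).injective
    rwa [Set.preimage_image_eq _ hinj] at h2
  obtain ⟨R, rfl⟩ := hT
  obtain ⟨R', g, hg⟩ := compactSpace_iff_exists.mp (inferInstance : CompactSpace ↥U)
  obtain ⟨φ, hφ⟩ := Spec.homEquiv.symm.surjective (g ≫ k)
  have h1 : k '' D = (g ≫ k) '' (g ⁻¹' D) := by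
    rw [Scheme.Hom.comp_base, TopCat.coe_comp, Set.image_comp, Set.image_preimage_eq _ hg]
  rw [h1] at h ⊢
  rw [← hφ] at h ⊢
  exact PrimeSpectrum.isClosed_image_of_stableUnderSpecialization φ.hom _ (hD.preimage g.continuous) h

theorem isClosedMap_of_existVC {Z : Over S} [IsAffine Z.left] {P : Sp S} (s : P ⟶ (yon S).obj Z) (hP : IsQuasiCompactSp P)
    (he : ExistVC s) : IsClosedMap (Points.map s) := by
  obtain ⟨U, p, hp, hps, hU⟩ := hP
  have : CompactSpace ↥U.left := hU
  obtain ⟨k, hk⟩ := (yon S).map_surjective (p ≫ s)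
  have hsurj : Function.Surjective (Points.ofPt p) := K609.Points.surjective_ofPt_of_repWith_surjective hps
  have hkp : ∀ u : ↥U.left, Points.map s (Points.ofPt p u) = Points.ofScheme Z (k.left u) := fun u => by
    rw [Points.map_ofPt, ← hk, K609.Points.ofPt_yon_map]
  intro C hC
  have hD : IsClosed (Points.ofPt p ⁻¹' C) := hC.preimage (Points.continuous_ofPt p)
  have himg : Points.map s '' C = Points.schemeHomeo Z '' (k.left '' (Points.ofPt p ⁻¹' C)) := by
    ext y
    constructor
    · rintro ⟨x, hx, rfl⟩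
      obtain ⟨u, rfl⟩ := hsurj x
      exact ⟨k.left u, ⟨u, hx, rfl⟩, (hkp u).symm⟩
    · rintro ⟨_, ⟨u, hu, rfl⟩, rfl⟩
      exact ⟨Points.ofPt p u, hu, hkp u⟩
  rw [himg]
  refine (Points.schemeHomeo Z).isClosedMap _ (isClosed_image k.left _ hD ?_)
  rintro _ t' ht ⟨u, hu, rfl⟩
  obtain ⟨Ω, _, str, v, hv0⟩ := K614.ValChart.exists_fieldPt U u
  obtain ⟨A', l, hl, hl0⟩ := K620.ExistVC.exists_val (U := Z.left) (Ω := Ω) (v ≫ k).left t' (by
    change k.left (v.left (closedPoint Ω)) ⤳ t'
    rw [hv0]; exact ht)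
  have hv' : v.left ≫ U.hom = Spec.map (CommRingCat.ofHom (algebraMap A' Ω)) ≫ l ≫ Z.hom := by
    rw [← Category.assoc, hl, Over.w (v ≫ k)]
    exact Over.w v
  let v' : Over.mk (Spec.map (CommRingCat.ofHom (algebraMap A' Ω)) ≫ l ≫ Z.hom) ⟶ U := Over.homMk v.left hv'
  let b : Over.mk (l ≫ Z.hom) ⟶ Z := Over.homMk l rfl
  let sq : ValSq s :=
    { A := A'
      K := Ω
      str := l ≫ Z.hom
      top := (yon S).map v' ≫ p
      bot := (yon S).map b
      comm := by
        rw [Category.assoc, ← hk, ← Functor.map_comp, ← Functor.map_comp]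
        congr 1
        apply Over.OverMorphism.ext
        exact hl.symm }
  obtain ⟨e, l', h1, h2⟩ := he sq
  let η : ↥e.ptK'.left := (closedPoint e.K' : PrimeSpectrum e.K')
  let c : ↥e.ptA'.left := (closedPoint e.A' : PrimeSpectrum e.A')
  have h3 : Points.ofPt l' ((jK e).left η) ∈ C := by
    rw [← K609.Points.ofPt_yon_map_comp]
    have h4 : (yon S).map (jK e) ≫ l' = (yon S).map (pK e ≫ v') ≫ p := by
      rw [Functor.map_comp, Category.assoc]; exact h1
    rw [h4, K609.Points.ofPt_yon_map_comp]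
    have h5 : (pK e ≫ v').left η = u := by
      change v.left ((pK e).left η) = u
      rw [← hv0]
      exact congrArg v.left (Subsingleton.elim (α := PrimeSpectrum Ω) _ _)
    rw [h5]; exact hu
  have h6 : (jK e).left η ⤳ c := specializes_closedPoint (R := e.A') _
  have h7 : Points.ofPt l' c ∈ C := (h6.map (Points.continuous_ofPt l')).mem_closed hC h3
  obtain ⟨u'', hu''⟩ := hsurj (Points.ofPt l' c)
  refine ⟨u'', ?_, ?_⟩
  · change Points.ofPt p u'' ∈ C
    rw [hu'']; exact h7
  · apply K609.Points.ofScheme_injective Z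
    rw [← hkp, hu'', Points.map_ofPt]
    have h8 : l' ≫ s = (yon S).map (pA e ≫ b) := by
      rw [Functor.map_comp]; exact h2
    rw [h8, K609.Points.ofPt_yon_map]
    congr 1
    change l ((pA e).left c) = t'
    rw [← hl0]
    exact congrArg l (K614.Push.closedPoint_φ e)

theorem isUnivClosedMor_of_existVC (hq : IsQuasiCompactMor f) (he : ExistVC f) : IsUnivClosedMor f := by
  rw [K596.Univ.isUnivClosedMor_iff_affine]
  intro Z hZ g P fst snd sq
  have hZc : IsQuasiCompactSp ((yon S).obj Z) := ⟨Z, 𝟙 _, (K613.Chart.Ch.id Z).et, (K613.Chart.Ch.id Z).surj, inferInstance⟩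
  exact isClosedMap_of_existVC snd (hq (IsAlgSpace.yon_obj Z) hZc g fst snd sq) (existVC_of_isPullback sq he)

end K614.UnivClosed
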