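import Groth.Prelude.Def_AlgSpMor5
/-!
# Valuative squares for morphisms of fppf sheaves: formal toolbox

* `K614.Val.jK`, `pA`, `pK`: the structure maps of a dominating extension, `pK_j : pK ≫ j = jK ≫ pA`;
* `K614.Val.push`: a valuative square for `f'` and a commutative square `f' → f` give a valuative square for `f`;
* `K614.Val.ofPush`, `toPush`: dominating extensions of the pushed square are dominating extensions of the square;
* `K614.Val.restr`: the valuative square obtained from a dominating extension and a lift of the bottom arrow;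
* `K614.Val.trans`: composition of dominating extensions;
* `K614.Val.existVC_of_isPullback`, `uniqVC_of_isPullback`, `existVC_comp`, `uniqVC_comp`.
-/

universe u

open CategoryTheory CategoryTheory.Limits AlgebraicGeometry Opposite AlgSp

noncomputable section

namespace K614.Val

variable {S : Scheme.{u}}

section Maps

variable {F G : Sp S} {f : F ⟶ G} {sq : ValSq f} (e : sq.DomExt)

/-- `Spec K' ⟶ Spec A'` over `S`. -/
abbrev jK : e.ptK' ⟶ e.ptA' := Over.homMk (Spec.map (CommRingCat.ofHom (algebraMap e.A' e.K'))) rfl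

/-- `Spec A' ⟶ Spec A` over `S`. -/
abbrev pA : e.ptA' ⟶ sq.ptA := Over.homMk (Spec.map (CommRingCat.ofHom e.φ)) rfl

theorem w_pK : Spec.map (CommRingCat.ofHom e.ψ) ≫ sq.ptK.hom = e.ptK'.hom := by
  change Spec.map _ ≫ Spec.map _ ≫ _ = Spec.map _ ≫ Spec.map _ ≫ _
  rw [← Spec.map_comp_assoc, ← Spec.map_comp_assoc, ← CommRingCat.ofHom_comp,
    ← CommRingCat.ofHom_comp, e.comm]

/-- `Spec K' ⟶ Spec K` over `S`. -/
abbrev pK : e.ptK' ⟶ sq.ptK := Over.homMk (Spec.map (CommRingCat.ofHom e.ψ)) (w_pK e)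

theorem pK_j : pK e ≫ sq.j = jK e ≫ pA e := by
  apply Over.OverMorphism.ext
  change Spec.map _ ≫ Spec.map _ = Spec.map _ ≫ Spec.map _
  rw [← Spec.map_comp, ← Spec.map_comp, ← CommRingCat.ofHom_comp, ← CommRingCat.ofHom_comp, e.comm]

theorem hasLift_iff : e.HasLift ↔ ∃ l : (yon S).obj e.ptA' ⟶ F,
    (yon S).map (jK e) ≫ l = (yon S).map (pK e) ≫ sq.top ∧ l ≫ f = (yon S).map (pA e) ≫ sq.bot :=
  Iff.rfl

theorem hasLift_sq_iff : sq.HasLift ↔ ∃ l : (yon S).obj sq.ptA ⟶ F,
    (yon S).map sq.j ≫ l = sq.top ∧ l ≫ f = sq.bot := Iff.rfl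

end Maps

section Push

variable {F G F' G' : Sp S} {f' : F' ⟶ G'} {f : F ⟶ G} (a : F' ⟶ F) (b : G' ⟶ G)
  (w : a ≫ f = f' ≫ b)

/-- Push a valuative square along a commutative square of sheaves. -/
@[reducible]
def push (sq : ValSq f') : ValSq f where
  A := sq.A
  K := sq.K
  str := sq.str
  top := sq.top ≫ a
  bot := sq.bot ≫ b
  comm := by rw [Category.assoc, w, ← Category.assoc, sq.comm, Category.assoc]

/-- A dominating extension of the pushed square is a dominating extension of the square. -/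
@[reducible]
def ofPush {sq : ValSq f'} (e : (push a b w sq).DomExt) : sq.DomExt where
  A' := e.A'
  K' := e.K'
  φ := e.φ
  ψ := e.ψ
  comm := e.comm
  isLocalHom := e.isLocalHom

/-- A dominating extension of the square is a dominating extension of the pushed square. -/
@[reducible]
def toPush {sq : ValSq f'} (e : sq.DomExt) : (push a b w sq).DomExt where
  A' := e.A'
  K' := e.K'
  φ := e.φ
  ψ := e.ψ
  comm := e.comm
  isLocalHom := e.isLocalHom

end Push

theorem existVC_of_isPullback {F G F' G' : Sp S} {f' : F' ⟶ G'} {f : F ⟶ G} {a : F' ⟶ F}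
    {b : G' ⟶ G} (h : IsPullback a f' f b) (hf : ExistVC f) : ExistVC f' := by
  intro sq
  obtain ⟨e, l, h1, h2⟩ := hf (push a b h.w sq)
  let e' : sq.DomExt := ofPush a b h.w e
  let l' : (yon S).obj e'.ptA' ⟶ F := l
  have h1' : (yon S).map (jK e') ≫ l' = (yon S).map (pK e') ≫ sq.top ≫ a := h1
  have h2' : l' ≫ f = ((yon S).map (pA e') ≫ sq.bot) ≫ b := by
    rw [Category.assoc]; exact h2
  refine ⟨e', (hasLift_iff e').2 ⟨h.lift l' ((yon S).map (pA e') ≫ sq.bot) h2', ?_, h.lift_snd _ _ _⟩⟩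
  apply h.hom_ext
  · rw [Category.assoc, h.lift_fst, h1', Category.assoc]
  · rw [Category.assoc, h.lift_snd, Category.assoc, sq.comm, ← Category.assoc, ← Category.assoc,
      ← Functor.map_comp, ← Functor.map_comp, pK_j]

theorem uniqVC_of_isPullback {F G F' G' : Sp S} {f' : F' ⟶ G'} {f : F ⟶ G} {a : F' ⟶ F}
    {b : G' ⟶ G} (h : IsPullback a f' f b) (hf : UniqVC f) : UniqVC f' := by
  intro sq l l' h1 h2 h1' h2'
  apply h.hom_ext
  · refine hf (push a b h.w sq) (l ≫ a) (l' ≫ a) ?_ ?_ ?_ ?_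
    · rw [← Category.assoc]; exact congrArg (· ≫ a) h1
    · change (l ≫ a) ≫ f = sq.bot ≫ b
      rw [Category.assoc, h.w, ← Category.assoc, h2]
    · rw [← Category.assoc]; exact congrArg (· ≫ a) h1'
    · change (l' ≫ a) ≫ f = sq.bot ≫ b
      rw [Category.assoc, h.w, ← Category.assoc, h2']
  · rw [h2, h2']

section Comp

variable {F G H : Sp S} {f : F ⟶ G} {g : G ⟶ H}

/-- The valuative square over `f` obtained from a valuative square `sq` over `f ≫ g`, a dominating extension `e` and a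
map `l : Spec A' ⟶ G` with the right restriction to `Spec K'`. -/
@[reducible]
def restr {k : F ⟶ H} {sq : ValSq k} (e : sq.DomExt) (l : (yon S).obj e.ptA' ⟶ G)
    (h : (yon S).map (jK e) ≫ l = (yon S).map (pK e) ≫ sq.top ≫ f) : ValSq f where
  A := e.A'
  K := e.K'
  str := e.ptA'.hom
  top := (yon S).map (pK e) ≫ sq.top
  bot := l
  comm := by rw [Category.assoc]; exact h.symm

/-- Composition of dominating extensions. -/
@[reducible]
def trans {k : F ⟶ H} {sq : ValSq k} (e : sq.DomExt) (l : (yon S).obj e.ptA' ⟶ G)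
    (h : (yon S).map (jK e) ≫ l = (yon S).map (pK e) ≫ sq.top ≫ f) (e' : (restr e l h).DomExt) :
    sq.DomExt where
  A' := e'.A'
  K' := e'.K'
  φ := e'.φ.comp e.φ
  ψ := e'.ψ.comp e.ψ
  comm := by
    have h1 := e'.comm
    have h2 := e.comm
    ext x
    have h1' := RingHom.congr_fun h1 (e.φ x)
    have h2' := congrArg e'.ψ (RingHom.congr_fun h2 x)
    exact h1'.trans h2'
  isLocalHom := by
    have := e.isLocalHom
    have := e'.isLocalHom
    exact RingHom.isLocalHom_comp _ _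

/-- The map over `S` from `Spec A''` of the composite extension to that of the second extension. -/
def isoA {k : F ⟶ H} {sq : ValSq k} (e : sq.DomExt) (l : (yon S).obj e.ptA' ⟶ G)
    (h : (yon S).map (jK e) ≫ l = (yon S).map (pK e) ≫ sq.top ≫ f) (e' : (restr e l h).DomExt) :
    (trans e l h e').ptA' ⟶ e'.ptA' :=
  Over.homMk (𝟙 (Spec (CommRingCat.of e'.A'))) (by
    change _ ≫ Spec.map (CommRingCat.ofHom e'.φ) ≫ (Spec.map (CommRingCat.ofHom e.φ) ≫ sq.str) =
      Spec.map (CommRingCat.ofHom (e'.φ.comp e.φ)) ≫ sq.str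
    rw [Category.id_comp, CommRingCat.ofHom_comp, Spec.map_comp, Category.assoc])

/-- The map over `S` from `Spec K''` of the composite extension to that of the second extension. -/
def isoK {k : F ⟶ H} {sq : ValSq k} (e : sq.DomExt) (l : (yon S).obj e.ptA' ⟶ G)
    (h : (yon S).map (jK e) ≫ l = (yon S).map (pK e) ≫ sq.top ≫ f) (e' : (restr e l h).DomExt) :
    (trans e l h e').ptK' ⟶ e'.ptK' :=
  Over.homMk (𝟙 (Spec (CommRingCat.of e'.K'))) (by
    change _ ≫ Spec.map (CommRingCat.ofHom (algebraMap e'.A' e'.K')) ≫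
        Spec.map (CommRingCat.ofHom e'.φ) ≫ (Spec.map (CommRingCat.ofHom e.φ) ≫ sq.str) =
      Spec.map (CommRingCat.ofHom (algebraMap e'.A' e'.K')) ≫
        Spec.map (CommRingCat.ofHom (e'.φ.comp e.φ)) ≫ sq.str
    rw [Category.id_comp, CommRingCat.ofHom_comp, Spec.map_comp, Category.assoc])

theorem jK_isoA {k : F ⟶ H} {sq : ValSq k} (e : sq.DomExt) (l : (yon S).obj e.ptA' ⟶ G)
    (h : (yon S).map (jK e) ≫ l = (yon S).map (pK e) ≫ sq.top ≫ f) (e' : (restr e l h).DomExt) :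
    jK (trans e l h e') ≫ isoA e l h e' = isoK e l h e' ≫ jK e' := by
  apply Over.OverMorphism.ext
  change Spec.map (CommRingCat.ofHom (algebraMap e'.A' e'.K')) ≫ 𝟙 (Spec (CommRingCat.of e'.A')) =
    𝟙 (Spec (CommRingCat.of e'.K')) ≫ Spec.map (CommRingCat.ofHom (algebraMap e'.A' e'.K'))
  rw [Category.comp_id, Category.id_comp]

theorem isoA_pA {k : F ⟶ H} {sq : ValSq k} (e : sq.DomExt) (l : (yon S).obj e.ptA' ⟶ G)
    (h : (yon S).map (jK e) ≫ l = (yon S).map (pK e) ≫ sq.top ≫ f) (e' : (restr e l h).DomExt) :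
    isoA e l h e' ≫ (pA e' : e'.ptA' ⟶ e.ptA') ≫ pA e = pA (trans e l h e') := by
  apply Over.OverMorphism.ext
  change 𝟙 (Spec (CommRingCat.of e'.A')) ≫ Spec.map (CommRingCat.ofHom e'.φ) ≫
    Spec.map (CommRingCat.ofHom e.φ) = Spec.map (CommRingCat.ofHom (e'.φ.comp e.φ))
  rw [Category.id_comp, CommRingCat.ofHom_comp, Spec.map_comp]

theorem isoK_pK {k : F ⟶ H} {sq : ValSq k} (e : sq.DomExt) (l : (yon S).obj e.ptA' ⟶ G)
    (h : (yon S).map (jK e) ≫ l = (yon S).map (pK e) ≫ sq.top ≫ f) (e' : (restr e l h).DomExt) :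
    isoK e l h e' ≫ (pK e' : e'.ptK' ⟶ e.ptK') ≫ pK e = pK (trans e l h e') := by
  apply Over.OverMorphism.ext
  change 𝟙 (Spec (CommRingCat.of e'.K')) ≫ Spec.map (CommRingCat.ofHom e'.ψ) ≫
    Spec.map (CommRingCat.ofHom e.ψ) = Spec.map (CommRingCat.ofHom (e'.ψ.comp e.ψ))
  rw [Category.id_comp, CommRingCat.ofHom_comp, Spec.map_comp]

theorem hasLift_trans {k : F ⟶ H} {sq : ValSq k} (e : sq.DomExt) (l : (yon S).obj e.ptA' ⟶ G)
    (h : (yon S).map (jK e) ≫ l = (yon S).map (pK e) ≫ sq.top ≫ f) (e' : (restr e l h).DomExt)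
    (l' : (yon S).obj e'.ptA' ⟶ F)
    (h1 : (yon S).map (jK e') ≫ l' =
      (yon S).map (pK e' : e'.ptK' ⟶ e.ptK') ≫ (yon S).map (pK e) ≫ sq.top)
    (h2 : l' ≫ k = (yon S).map (pA e' : e'.ptA' ⟶ e.ptA') ≫ (yon S).map (pA e) ≫ sq.bot) :
    (trans e l h e').HasLift := by
  rw [hasLift_iff]
  refine ⟨(yon S).map (isoA e l h e') ≫ l', ?_, ?_⟩
  · have h3 : (yon S).map (jK (trans e l h e')) ≫ (yon S).map (isoA e l h e') ≫ l' =
      (yon S).map (isoK e l h e') ≫ (yon S).map (jK e') ≫ l' := by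
      rw [← Functor.map_comp_assoc, jK_isoA, Functor.map_comp_assoc]
    rw [h3, h1, ← isoK_pK, Functor.map_comp_assoc, Functor.map_comp_assoc]
  · rw [Category.assoc, h2, ← isoA_pA, Functor.map_comp_assoc, Functor.map_comp_assoc]

theorem existVC_comp (hf : ExistVC f) (hg : ExistVC g) : ExistVC (f ≫ g) := by
  intro sq
  obtain ⟨e₁, l₁, h1, h2⟩ := hg (push f (𝟙 H) (by simp) sq)
  let e : sq.DomExt := ofPush f (𝟙 H) (by simp) e₁
  let l : (yon S).obj e.ptA' ⟶ G := l₁
  have h1' : (yon S).map (jK e) ≫ l = (yon S).map (pK e) ≫ sq.top ≫ f := h1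
  have h2' : l ≫ g = (yon S).map (pA e) ≫ sq.bot := by
    have : l ≫ g = (yon S).map (pA e) ≫ sq.bot ≫ 𝟙 _ := h2
    rwa [Category.comp_id] at this
  obtain ⟨e', l', h3, h4⟩ := hf (restr e l h1')
  refine ⟨trans e l h1' e', hasLift_trans e l h1' e' l' h3 ?_⟩
  rw [← h2', ← Category.assoc]
  change l' ≫ f = (yon S).map (pA e') ≫ l at h4
  rw [h4, Category.assoc]

theorem uniqVC_comp (hf : UniqVC f) (hg : UniqVC g) : UniqVC (f ≫ g) := by
  intro sq l l' h1 h2 h1' h2'
  have h : l ≫ f = l' ≫ f := by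
    refine hg (push f (𝟙 H) (by simp) sq) (l ≫ f) (l' ≫ f) ?_ ?_ ?_ ?_
    · rw [← Category.assoc]; exact congrArg (· ≫ f) h1
    · change (l ≫ f) ≫ g = sq.bot ≫ 𝟙 _
      rw [Category.assoc, h2, Category.comp_id]
    · rw [← Category.assoc]; exact congrArg (· ≫ f) h1'
    · change (l' ≫ f) ≫ g = sq.bot ≫ 𝟙 _
      rw [Category.assoc, h2', Category.comp_id]
  let sq' : ValSq f :=
    { A := sq.A, K := sq.K, str := sq.str, top := sq.top, bot := l ≫ f
      comm := by rw [← Category.assoc]; exact congrArg (· ≫ f) h1.symm }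
  exact hf sq' l l' h1 rfl h1' h.symm

end Comp

end K614.Val
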